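/-
An involution `t` acting on a perfect group `A` with a cyclic group of order four as Sylow 2-subgroup
of `C_A(t)`, when `A` has 2-rank at least two: basic facts and the tools from transfer and fusion.
Main results: `Setup`, `sylowOf`, `contra_hom`, `exists_conj_of_index_two`, `eq_of_fusion`,
`centralizes_of_fixes_involutions`, `exists_central_conj`.
-/
import Cfsg.Agent.S0111
import Cfsg.Agent.Lib.Components.Rigid
import Cfsg.Agent.Lib.TwoFusion.Transfer
import Cfsg.Agent.Lib.PGroup.Basic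

set_option autoImplicit false
set_option linter.style.haveILetI false
set_option linter.unusedSectionVars false

namespace Cfsg.Agent.Components.CyclicFour

open Subgroup
open scoped commutatorElement

variable {G : Type*} [Group G] [Finite G]

/-- `S = P ∩ A` Sylow in `A`, `P` Sylow in `A⟨t⟩`, `C_S(t) = ⟨r⟩` of order four, `S` of rank at least two. -/
structure Setup (A S P : Subgroup G) (t r : G) : Prop where
  perfect : ⁅A, A⁆ = A
  tA : t ∈ normalizer (A : Set G)
  maxS : IsMaxP 2 S A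
  maxP : IsMaxP 2 P (A ⊔ zpowers t)
  inf : S = P ⊓ A
  tP : t ∈ P
  tt : t * t = 1
  rS : r ∈ S
  tr : t * r = r * t
  r4 : orderOf r = 4
  fix : ∀ x ∈ S, t * x = x * t → x ∈ zpowers r
  one : ∀ u ∈ A, ∀ v ∈ A, u * u = 1 → v * v = 1 → u ≠ 1 → v ≠ 1 → u * v = v * u →
    t * u = u * t → t * v = v * t → u = v
  rank : ∃ f ∈ S, ∃ g ∈ S, f * f = 1 ∧ g * g = 1 ∧ f ≠ 1 ∧ g ≠ 1 ∧ f ≠ g

namespace Setup

variable {A S P : Subgroup G} {t r : G} (h : Setup A S P t r)
include h

theorem SP : S ≤ P := h.inf ▸ inf_le_left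
theorem SA : S ≤ A := h.maxS.1
theorem rP : r ∈ P := h.SP h.rS
theorem rA : r ∈ A := h.SA h.rS
theorem isP : IsPGroup 2 ↥P := h.maxP.2.1
theorem isS : IsPGroup 2 ↥S := h.maxS.2.1

theorem mem_S {x : G} (hx : x ∈ P) (hxA : x ∈ A) : x ∈ S := h.inf ▸ mem_inf.2 ⟨hx, hxA⟩

theorem inv_t : t⁻¹ = t := inv_eq_of_mul_eq_one_right h.tt

theorem le_norm : A ⊔ zpowers t ≤ normalizer (A : Set G) := sup_le le_normalizer (zpowers_le.2 h.tA)

theorem conjA {g : G} (hg : g ∈ A ⊔ zpowers t) {x : G} (hx : x ∈ A) : g * x * g⁻¹ ∈ A :=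
  (mem_normalizer_iff.1 (h.le_norm hg) x).1 hx

theorem conjS {p : G} (hp : p ∈ P) {x : G} (hx : x ∈ S) : p * x * p⁻¹ ∈ S :=
  h.mem_S (mul_mem (mul_mem hp (h.SP hx)) (inv_mem hp)) (h.conjA (h.maxP.1 hp) (h.SA hx))

theorem tconj {x : G} (hx : x ∈ S) : t * x * t ∈ S := by
  have := h.conjS h.tP hx
  rwa [h.inv_t] at this

/-- Elements of `P` lie in `S` or in `St`. -/
theorem dec {q : G} (hq : q ∈ P) : q ∈ S ∨ ∃ x ∈ S, q = x * t := by
  have hq' : q ∈ ((A ⊔ zpowers t : Subgroup G) : Set G) := h.maxP.1 hq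
  rw [Subgroup.coe_mul_of_right_le_normalizer_left A (zpowers t) (zpowers_le.2 h.tA), Set.mem_mul] at hq'
  obtain ⟨x, hx, y, hy, rfl⟩ := hq'
  obtain ⟨i, rfl⟩ := mem_zpowers_iff.1 hy
  rcases Int.even_or_odd i with ⟨j, hj⟩ | ⟨j, hj⟩
  · have h1 : t ^ i = 1 := by
      rw [hj, ← two_mul, zpow_mul, zpow_two, h.tt, one_zpow]
    rw [h1, mul_one] at hq ⊢
    exact Or.inl (h.mem_S hq hx)
  · have h1 : t ^ i = t := by rw [hj, zpow_add, zpow_mul, zpow_two, h.tt, one_zpow, one_mul, zpow_one]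
    rw [h1] at hq ⊢
    exact Or.inr ⟨x, h.mem_S (by simpa using mul_mem hq (inv_mem h.tP)) hx, rfl⟩

theorem sq_mem {q : G} (hq : q ∈ P) : q * q ∈ S := by
  rcases h.dec hq with hS | ⟨x, hx, rfl⟩
  · exact mul_mem hS hS
  · rw [show x * t * (x * t) = x * (t * x * t) by group]
    exact mul_mem hx (h.tconj hx)

theorem z_mul : (r * r) * (r * r) = 1 := by
  have := pow_orderOf_eq_one r
  rw [h.r4] at this
  simpa [pow_succ, mul_assoc] using this

theorem z_ne : r * r ≠ 1 := fun e => by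
  have := orderOf_dvd_of_pow_eq_one (show r ^ 2 = 1 by rw [pow_two, e])
  rw [h.r4] at this; norm_num at this

theorem z_mem : r * r ∈ S := mul_mem h.rS h.rS

/-- An involution of `S` fixed by `t` is `z`. -/
theorem fix_sq {x : G} (hx : x ∈ S) (hx2 : x * x = 1) (htx : t * x = x * t) : x = 1 ∨ x = r * r := by
  obtain ⟨i, rfl⟩ := mem_zpowers_iff.1 (h.fix x hx htx)
  have h4 : (4 : ℤ) ∣ i + i := by
    rw [← zpow_add, ← orderOf_dvd_iff_zpow_eq_one, h.r4] at hx2
    exact_mod_cast hx2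
  have hr4 : r ^ (4 : ℤ) = 1 := by
    have := pow_orderOf_eq_one r
    rw [h.r4] at this; exact_mod_cast this
  obtain ⟨j, hj⟩ : (2 : ℤ) ∣ i := by omega
  rcases Int.even_or_odd j with ⟨l, hl⟩ | ⟨l, hl⟩
  · left; rw [hj, hl, show (2 : ℤ) * (l + l) = 4 * l by ring, zpow_mul, hr4, one_zpow]
  · right
    rw [hj, hl, show (2 : ℤ) * (2 * l + 1) = 4 * l + 2 by ring, zpow_add, zpow_mul, hr4, one_zpow,
      one_mul, zpow_two]

/-- `z = r²` is central in `P`. -/
theorem z_comm {p : G} (hp : p ∈ P) : p * (r * r) = r * r * p := by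
  haveI : Fact (Nat.Prime 2) := ⟨Nat.prime_two⟩
  haveI : (S.subgroupOf P).Normal := ⟨fun n hn q => mem_subgroupOf.2 (h.conjS q.2 hn)⟩
  obtain ⟨z, hzS, hzc, hz⟩ := PGroup.exists_central_order_p (p := 2) h.isP (N := S.subgroupOf P)
    (fun e => h.z_ne (by
      have : (⟨r * r, h.SP h.z_mem⟩ : ↥P) ∈ S.subgroupOf P := h.z_mem
      rw [e, mem_bot] at this
      exact congrArg Subtype.val this))
  have hz2 : (z : G) * z = 1 := by
    have := pow_orderOf_eq_one z
    rw [hz, pow_two] at this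
    exact congrArg Subtype.val this
  rcases h.fix_sq hzS hz2 (congrArg Subtype.val (mem_center_iff.1 hzc ⟨t, h.tP⟩)) with e | e
  · rw [show z = 1 from Subtype.ext e] at hz; simp at hz
  · exact e ▸ congrArg Subtype.val (mem_center_iff.1 hzc ⟨p, hp⟩)

theorem t_notA : t ∉ A := fun htA => by
  have htS := h.mem_S h.tP htA
  rcases h.fix_sq htS h.tt rfl with e | e
  · obtain ⟨f, hf, g, hg, hf2, hg2, hf1, hg1, hfg⟩ := h.rank
    exact hfg (((h.fix_sq hf hf2 (by simp [e])).resolve_left hf1).trans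
      ((h.fix_sq hg hg2 (by simp [e])).resolve_left hg1).symm)
  · obtain ⟨f, hf, g, hg, hf2, hg2, hf1, hg1, hfg⟩ := h.rank
    exact hfg (((h.fix_sq hf hf2 (by rw [e]; exact (h.z_comm (h.SP hf)).symm)).resolve_left hf1).trans
      ((h.fix_sq hg hg2 (by rw [e]; exact (h.z_comm (h.SP hg)).symm)).resolve_left hg1).symm)

theorem exists_e : ∃ e ∈ S, e * e = 1 ∧ e ≠ 1 ∧ e ≠ r * r := by
  obtain ⟨f, hf, g, hg, hf2, hg2, hf1, hg1, hfg⟩ := h.rank
  by_cases hfz : f = r * r
  · exact ⟨g, hg, hg2, hg1, fun hgz => hfg (hfz.trans hgz.symm)⟩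
  · exact ⟨f, hf, hf2, hf1, hfz⟩

/-- An involution of `S` commuting with its `t`-conjugate is `z` or is moved to its product with `z`. -/
theorem move {f : G} (hf : f ∈ S) (hf2 : f * f = 1) (hc : f * (t * f * t) = t * f * t * f)
    (h1 : f ≠ 1) (hz : f ≠ r * r) : t * f * t = f * (r * r) := by
  set f' := t * f * t with hf'
  have hf'2 : f' * f' = 1 := by
    rw [hf', show t * f * t * (t * f * t) = t * f * (t * t) * f * t by group, h.tt, mul_one,
      mul_assoc t f f, hf2, mul_one, h.tt]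
  have hg2 : (f * f') * (f * f') = 1 := by
    calc (f * f') * (f * f') = (f * f') * (f' * f) := by rw [hc]
      _ = f * (f' * f') * f := by group
      _ = 1 := by rw [hf'2, mul_one, hf2]
  have hug : t * (f * f') = (f * f') * t := by
    calc t * (f * f') = t * f * t * f * t := by rw [hf']; group
      _ = f' * f * t := by rw [hf']
      _ = f * f' * t := by rw [hc]
  have hback : f' = f * (f * f') := by rw [← mul_assoc, hf2, one_mul]
  rcases h.fix_sq (mul_mem hf (h.tconj hf)) hg2 hug with e | e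
  · rw [e, mul_one] at hback
    exact absurd (h.fix_sq hf hf2 (by
      calc t * f = t * f * (t * t) := by rw [h.tt, mul_one]
        _ = f' * t := by rw [hf']; group
        _ = f * t := by rw [hback])) (by tauto)
  · rw [hback, e]

/-- The Sylow 2-subgroup `S` of `A`. -/
def sylowOf : Sylow 2 ↥A where
  toSubgroup := S.subgroupOf A
  isPGroup' := h.isS.of_equiv (subgroupOfEquivOfLe h.SA).symm
  is_maximal' := fun {Q} hQ hle => by
    have := h.maxS.2.2 (Q.map A.subtype) (map_subtype_le _) (hQ.map _) fun x hx =>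
      ⟨⟨x, h.SA hx⟩, hle (mem_subgroupOf.2 hx), rfl⟩
    rw [← this]
    exact (comap_map_eq_self_of_injective A.subtype_injective Q).symm

theorem perfect_sub : ⁅(⊤ : Subgroup ↥A), (⊤ : Subgroup ↥A)⁆ = ⊤ := by
  refine Subgroup.map_injective A.subtype_injective ?_
  rw [map_commutator, ← MonoidHom.range_eq_map, range_subtype, h.perfect]

/-- A homomorphism from a perfect group to an abelian group is trivial. -/
theorem hom_eq_one {X : Type*} [CommGroup X] (f : ↥A →* X) (a : ↥A) : f a = 1 := by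
  have : (⊤ : Subgroup ↥A) ≤ f.ker := by
    rw [← h.perfect_sub, commutator_le]
    intro x _ y _
    rw [MonoidHom.mem_ker, map_commutatorElement, commutatorElement_eq_one_iff_mul_comm, mul_comm]
  exact this (mem_top a)

/-- Thompson transfer: an involution outside a subgroup of index two of `S` is fused into it. -/
theorem exists_conj_of_index_two {M : Subgroup G} (hM : M ≤ S) (hi : M.relIndex S = 2) {u : G}
    (hu : u ∈ S) (hu2 : u * u = 1) (hu1 : u ≠ 1) (huM : u ∉ M) : ∃ a ∈ A, a * u * a⁻¹ ∈ M := by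
  haveI : Fact (Nat.Prime 2) := ⟨Nat.prime_two⟩
  rcases S0111.result h.sylowOf (M.subgroupOf A) (fun x hx => hM hx) (by
      show (M.subgroupOf A).relIndex (S.subgroupOf A) = 2
      rw [relIndex_subgroupOf h.SA]; exact hi)
    ⟨u, h.SA hu⟩ (by rw [← Subgroup.orderOf_coe]; exact orderOf_eq_prime (by rw [pow_two, hu2]) hu1)
    hu huM with ⟨N, hN, hNi, huN⟩ | ⟨a, ha⟩
  · exfalso
    haveI : IsCyclic (↥A ⧸ N) := isCyclic_of_prime_card (p := 2) (by rw [← index_eq_card, hNi])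
    let _ : CommGroup (↥A ⧸ N) := IsCyclic.commGroup
    exact huN ((QuotientGroup.eq_one_iff _).1 (h.hom_eq_one (QuotientGroup.mk' N) _))
  · exact ⟨a, a.2, ha⟩

/-- Transfer into a subgroup of index two: some conjugate of `u ∉ M` lies in `M`, unless the fusion
of the powers of `u` is controlled. -/
theorem contra_hom {M : Subgroup G} (hM : M ≤ S) (hi : M.relIndex S = 2) {u : G} (hu : u ∈ S)
    (huM : u ∉ M) (hev : ∀ k : ℕ, Even k → ∀ a ∈ A, a * u ^ k * a⁻¹ ∈ S → a * u ^ k * a⁻¹ ∈ M)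
    (hodd : ∀ k : ℕ, Odd k → ∀ a ∈ A, a * u ^ k * a⁻¹ ∈ S → a * u ^ k * a⁻¹ ∉ M) : False := by
  haveI : Fact (Nat.Prime 2) := ⟨Nat.prime_two⟩
  classical
  have hmm : ∀ {x y : G}, x ∈ S → y ∈ S → (x * y ∈ M ↔ (x ∈ M ↔ y ∈ M)) := fun {x y} hx hy =>
    mul_mem_iff_of_index_two (H := M.subgroupOf S) hi (a := ⟨x, hx⟩) (b := ⟨y, hy⟩)
  let φ : ↥(S.subgroupOf A) →* ℤˣ :=
    { toFun := fun x => if ((x : ↥A) : G) ∈ M then 1 else -1
      map_one' := if_pos (one_mem M)
      map_mul' := fun x y => by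
        have hxy := hmm (x := ((x : ↥A) : G)) (y := ((y : ↥A) : G)) x.2 y.2
        rw [Subgroup.coe_mul, Subgroup.coe_mul]
        by_cases h1 : ((x : ↥A) : G) ∈ M <;> by_cases h2 : ((y : ↥A) : G) ∈ M <;> simp_all }
  let g : ↥(S.subgroupOf A) := ⟨⟨u, h.SA hu⟩, hu⟩
  have hφ : φ g = -1 := if_neg huM
  have hV := TwoFusion.transfer_eq_pow_of_controlled φ g fun k a hm => by
    rw [hφ]
    show (if ((a * (g : ↥A) ^ k * a⁻¹ : ↥A) : G) ∈ M then (1 : ℤˣ) else -1) = (-1) ^ k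
    have hcoe : ((a * (g : ↥A) ^ k * a⁻¹ : ↥A) : G) = (a : G) * u ^ k * (a : G)⁻¹ := by simp [g]
    have hmS : (a : G) * u ^ k * (a : G)⁻¹ ∈ S := hcoe ▸ hm
    rw [hcoe]
    rcases Nat.even_or_odd k with hk | hk
    · rw [if_pos (hev k hk a a.2 hmS), hk.neg_one_pow]
    · rw [if_neg (hodd k hk a a.2 hmS), hk.neg_one_pow]
  rw [h.hom_eq_one, hφ] at hV
  have hidx : ¬ 2 ∣ (S.subgroupOf A).index := h.sylowOf.not_dvd_index
  rw [Nat.odd_iff.2 (by omega : (S.subgroupOf A).index % 2 = 1) |>.neg_one_pow] at hV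
  exact absurd hV (by decide)

/-- If in the Sylow 2-subgroup `Q` of `B ⊇ A` the central `z` is the only involution that is a
square, and `c ∈ Q` centralizes `e` with `c² = z`, then `e` is not conjugate to `z`. -/
theorem eq_of_fusion {B Q : Subgroup G} (hQ : IsMaxP 2 Q B) (hQP : Q ≤ P)
    (hsq : ∀ q ∈ Q, (q * q) * (q * q) = 1 → q * q = 1 ∨ q * q = r * r) {e c : G} (hc : c ∈ Q)
    (hce : c * e = e * c) (hcz : c * c = r * r) {a : G} (ha : a ∈ B)
    (hae : a * e * a⁻¹ = r * r) : e = r * r := by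
  haveI : Fact (Nat.Prime 2) := ⟨Nat.prime_two⟩
  let H : Subgroup G := B ⊓ centralizer {e}
  have hK : IsMaxP 2 (conjOf Q a⁻¹) H := by
    refine ⟨fun x hx => mem_inf.2 ⟨?_, mem_centralizer_singleton_iff.2 ?_⟩, hQ.2.1.map _,
      fun R hRH hR hle => ?_⟩
    · have h1 := mem_conjOf.1 hx
      rw [inv_inv] at h1
      have := mul_mem (mul_mem (inv_mem ha) (hQ.1 h1)) ha
      simpa [mul_assoc] using this
    · have h1 := mem_conjOf.1 hx
      rw [inv_inv] at h1
      have h2 := h.z_comm (hQP h1)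
      rw [← hae] at h2
      calc x * e = a⁻¹ * (a * x * a⁻¹ * (a * e * a⁻¹)) * a := by group
        _ = a⁻¹ * (a * e * a⁻¹ * (a * x * a⁻¹)) * a := by rw [h2]
        _ = e * x := by group
    · obtain ⟨b, -, hb⟩ := exists_conj_le_max hQ (hRH.trans inf_le_left) hR
      exact (Subgroup.eq_of_le_of_card_ge hle (by
        rw [card_conjOf]; exact (Subgroup.card_le_of_le hb).trans (card_conjOf Q b).le)).symm
  have hcH : c ∈ H := mem_inf.2 ⟨hQ.1 hc, mem_centralizer_singleton_iff.2 hce⟩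
  obtain ⟨b, hbH, hb⟩ := exists_conj_le_max hK (zpowers_le.2 hcH) (hQ.2.1.to_le (zpowers_le.2 hc))
  have h1 := mem_conjOf.1 (mem_conjOf.1 (hb (mem_zpowers c)))
  rw [inv_inv] at h1
  set d := a * (b⁻¹ * c * b) * a⁻¹ with hd_def
  have hd : d * d = a * (b⁻¹ * (r * r) * b) * a⁻¹ := by rw [hd_def, ← hcz]; group
  have hdz : d * d = r * r := by
    refine (hsq d h1 ?_).resolve_left fun h2 => ?_
    · rw [hd, show a * (b⁻¹ * (r * r) * b) * a⁻¹ * (a * (b⁻¹ * (r * r) * b) * a⁻¹) =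
        a * (b⁻¹ * ((r * r) * (r * r)) * b) * a⁻¹ by group, h.z_mul]
      group
    · rw [hd, conj_eq_one_iff] at h2
      refine h.z_ne ?_
      calc r * r = b * (b⁻¹ * (r * r) * b) * b⁻¹ := by group
        _ = 1 := by rw [h2]; group
  have hbe : b * e = e * b := mem_centralizer_singleton_iff.1 (mem_inf.1 hbH).2
  rw [hd] at hdz
  conv_rhs at hdz => rw [← hae]
  have h3 : b⁻¹ * (r * r) * b = e := mul_left_cancel (mul_right_cancel hdz)
  calc e = (e * b) * b⁻¹ := by group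
    _ = b * (b⁻¹ * (r * r) * b) * b⁻¹ := by rw [← hbe, h3]
    _ = r * r := by group

end Setup

/-- An element of odd order acting on an abelian 2-group and fixing its involutions centralizes it. -/
theorem centralizes_of_fixes_involutions {C : Subgroup G} (hC : IsPGroup 2 ↥C)
    (hcomm : ∀ x ∈ C, ∀ y ∈ C, x * y = y * x) {n : G} (hn : ∀ x ∈ C, n * x * n⁻¹ ∈ C) {k : ℕ}
    (hk : Odd k) (hnk : n ^ k = 1) (hfix : ∀ x ∈ C, x * x = 1 → n * x * n⁻¹ = x) :
    ∀ x ∈ C, n * x * n⁻¹ = x := by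
  suffices H : ∀ (j : ℕ), ∀ x ∈ C, x ^ 2 ^ j = 1 → n * x * n⁻¹ = x by
    intro x hx
    obtain ⟨j, hj⟩ := hC ⟨x, hx⟩
    exact H j x hx (congrArg Subtype.val hj)
  intro j
  induction j with
  | zero =>
    intro x _ hx
    rw [pow_zero, pow_one] at hx
    simp [hx]
  | succ j ih =>
    intro x hx hxj
    have h2 := ih (x * x) (mul_mem hx hx) (by rw [← pow_two, ← pow_mul, ← pow_succ']; exact hxj)
    set w := x⁻¹ * (n * x * n⁻¹) with hw_def
    have hw : w ∈ C := mul_mem (inv_mem hx) (hn x hx)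
    have hww : w * w = 1 := by
      calc w * w = x⁻¹ * ((n * x * n⁻¹) * x⁻¹) * (n * x * n⁻¹) := by rw [hw_def]; group
        _ = x⁻¹ * (x⁻¹ * (n * x * n⁻¹)) * (n * x * n⁻¹) := by rw [hcomm _ (hn x hx) _ (inv_mem hx)]
        _ = x⁻¹ * x⁻¹ * (n * (x * x) * n⁻¹) := by group
        _ = 1 := by rw [h2]; group
    have hiter : ∀ i : ℕ, n ^ i * x * (n ^ i)⁻¹ = x * w ^ i := by
      intro i
      induction i with
      | zero => simp
      | succ i ihi =>
        calc n ^ (i + 1) * x * (n ^ (i + 1))⁻¹ = n * (n ^ i * x * (n ^ i)⁻¹) * n⁻¹ := by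
              rw [pow_succ']; group
          _ = (n * x * n⁻¹) * (n * w ^ i * n⁻¹) := by rw [ihi]; group
          _ = x * w * w ^ i := by
              rw [hfix _ (pow_mem hw i) (by rw [← mul_pow_self_aux hww i]), hw_def, mul_inv_cancel_left]
          _ = x * w ^ (i + 1) := by rw [pow_succ', mul_assoc]
    have h3 := hiter k
    rw [hnk] at h3
    obtain ⟨m, rfl⟩ := hk
    have hw1 : w ^ (2 * m + 1) = w := by rw [pow_succ, pow_mul, pow_two, hww, one_pow, one_mul]
    rw [hw1] at h3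
    have : w = 1 := mul_left_cancel (a := x) (by simpa using h3.symm)
    rw [hw_def] at this
    exact (inv_mul_eq_one.1 this).symm
where
  mul_pow_self_aux {w : G} (hw : w * w = 1) (i : ℕ) : w ^ i * w ^ i = 1 := by
    rw [← pow_add, ← two_mul, pow_mul, pow_two, hw, one_pow]

/-- Conjugate central elements of a Sylow subgroup are conjugate in its normalizer. -/
theorem exists_central_conj {A S : Subgroup G} (hS : IsMaxP 2 S A) {x y a : G} (ha : a ∈ A)
    (hx : ∀ s ∈ S, s * x = x * s) (hy : ∀ s ∈ S, s * y = y * s) (hxy : a * x * a⁻¹ = y) :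
    ∃ n ∈ A, (∀ s ∈ S, n * s * n⁻¹ ∈ S) ∧ n * x * n⁻¹ = y := by
  haveI : Fact (Nat.Prime 2) := ⟨Nat.prime_two⟩
  let H : Subgroup G := A ⊓ centralizer {y}
  have hSH : IsMaxP 2 S H := ⟨le_inf hS.1 fun s hs => mem_centralizer_singleton_iff.2 (hy s hs), hS.2.1,
    fun R hR hRp hle => hS.2.2 R (hR.trans inf_le_left) hRp hle⟩
  have hle : conjOf S a ≤ H := fun u hu => by
    have h1 := mem_conjOf.1 hu
    refine mem_inf.2 ⟨by simpa [mul_assoc] using mul_mem (mul_mem ha (hS.1 h1)) (inv_mem ha),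
      mem_centralizer_singleton_iff.2 ?_⟩
    rw [← hxy]
    calc u * (a * x * a⁻¹) = a * ((a⁻¹ * u * a) * x) * a⁻¹ := by group
      _ = a * (x * (a⁻¹ * u * a)) * a⁻¹ := by rw [hx _ h1]
      _ = a * x * a⁻¹ * u := by group
  obtain ⟨b, hb, hb'⟩ := exists_conj_le_max hSH hle (hS.2.1.map _)
  refine ⟨b⁻¹ * a, mul_mem (inv_mem (mem_inf.1 hb).1) ha, fun s hs => ?_, ?_⟩
  · have := mem_conjOf.1 (hb' (show a * s * a⁻¹ ∈ conjOf S a from ⟨s, hs, rfl⟩))
    simpa [mul_assoc] using this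
  · have hby := mem_centralizer_singleton_iff.1 (mem_inf.1 hb).2
    calc b⁻¹ * a * x * (b⁻¹ * a)⁻¹ = b⁻¹ * (a * x * a⁻¹) * b := by group
      _ = b⁻¹ * (b * y) := by rw [hxy, mul_assoc, hby]
      _ = y := by group

end Cfsg.Agent.Components.CyclicFour
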