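/-
The abelian case: a perfect group has no abelian Sylow 2-subgroup of rank two and exponent at least four.
Main results: `Setup.false_of_comm`.
-/
import Cfsg.Agent.Lib.Components.CyclicFour.Basic
import Cfsg.Agent.Lib.BrauerHomo.Local
import Cfsg.Agent.Lib.HallHigman.Homocyclic
import Cfsg.Agent.Lib.Homocyclic.Sylow
import Cfsg.Agent.Lib.Cores.Basic

set_option autoImplicit false
set_option linter.style.haveILetI false
set_option linter.unusedSectionVars false

namespace Cfsg.Agent.Components.CyclicFour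

open Subgroup
open scoped commutatorElement

variable {G : Type*} [Group G] [Finite G] {A S P : Subgroup G} {t r : G}

namespace Setup

variable (h : Setup A S P t r)
include h

/-- `S` is not abelian with `{1, z, f, fz}` as its only involutions. -/
theorem false_of_comm (hcomm : ∀ x ∈ S, ∀ y ∈ S, x * y = y * x) {f : G}
    (hf : f ∈ S) (hf2 : f * f = 1) (hf1 : f ≠ 1) (hfz : f ≠ r * r)
    (hW : ∀ x ∈ S, x * x = 1 → x = 1 ∨ x = r * r ∨ x = f ∨ x = f * (r * r)) : False := by
  haveI : Fact (Nat.Prime 2) := ⟨Nat.prime_two⟩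
  classical
  set P₀ : Sylow 2 ↥A := h.sylowOf
  have hmem : ∀ x : ↥A, x ∈ (P₀ : Subgroup ↥A) ↔ (x : G) ∈ S := fun x => Iff.rfl
  haveI hc₀ : IsMulCommutative (P₀ : Subgroup ↥A) :=
    ⟨⟨fun x y => Subtype.ext (Subtype.ext (hcomm _ x.2 _ y.2))⟩⟩
  -- the Sylow subgroup is not central in its normalizer
  obtain ⟨n, hnN, hnC⟩ : ∃ n ∈ normalizer ((P₀ : Subgroup ↥A) : Set ↥A),
      n ∉ centralizer ((P₀ : Subgroup ↥A) : Set ↥A) := by
    by_contra! hc
    have hK := MonoidHom.ker_transferSylow_isComplement' P₀ hc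
    have htop : (MonoidHom.transferSylow P₀ hc).ker = ⊤ := by
      rw [eq_top_iff]
      intro a _
      rw [MonoidHom.mem_ker]
      let _ : CommGroup (P₀ : Subgroup ↥A) := { (inferInstance : Group (P₀ : Subgroup ↥A)) with mul_comm := mul_comm' }
      exact h.hom_eq_one (X := (P₀ : Subgroup ↥A)) (MonoidHom.transferSylow P₀ hc) a
    rw [htop] at hK
    have hbot : (P₀ : Subgroup ↥A) = ⊥ := by
      have := hK.disjoint
      rwa [top_disjoint] at this
    have : (⟨r, h.rA⟩ : ↥A) ∈ (P₀ : Subgroup ↥A) := h.rS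
    rw [hbot, mem_bot] at this
    exact h.z_ne (by rw [show r = 1 from congrArg Subtype.val this, one_mul])
  have hnS : ∀ x ∈ S, (n : G) * x * (n : G)⁻¹ ∈ S := fun x hx =>
    (mem_normalizer_iff.1 hnN ⟨x, h.SA hx⟩).1 hx
  -- its odd part moves an involution
  obtain ⟨e, m, hm, hem⟩ := Nat.exists_eq_two_pow_mul_odd (orderOf_pos n).ne'
  set σ : ↥A := n ^ 2 ^ e
  have hσm : σ ^ m = 1 := by rw [← pow_mul, ← hem, pow_orderOf_eq_one]
  have hσN : σ ∈ normalizer ((P₀ : Subgroup ↥A) : Set ↥A) := pow_mem hnN _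
  have hσS : ∀ x ∈ S, (σ : G) * x * (σ : G)⁻¹ ∈ S := fun x hx =>
    (mem_normalizer_iff.1 hσN ⟨x, h.SA hx⟩).1 hx
  obtain ⟨u, hu, hu2, humove⟩ : ∃ u ∈ S, u * u = 1 ∧ (σ : G) * u * (σ : G)⁻¹ ≠ u := by
    by_contra! hfix
    have hcent := centralizes_of_fixes_involutions h.isS hcomm hσS hm
      (by exact_mod_cast congrArg Subtype.val hσm) hfix
    refine hnC ?_
    -- `n` is a product of powers of `σ` and a 2-element in the Sylow subgroup
    have hτ : (n ^ m) ∈ (P₀ : Subgroup ↥A) := by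
      have hp : IsPGroup 2 ↥(zpowers (n ^ m)) :=
        isPGroup_zpowers (k := e) (by rw [← pow_mul, mul_comm, ← hem, pow_orderOf_eq_one])
      have hle : zpowers (n ^ m) ≤ zpowers (n ^ m) ⊓ (P₀ : Subgroup ↥A) :=
        hp.inf_normalizer_sylow P₀ ▸ le_inf le_rfl (zpowers_le.2 (pow_mem hnN m))
      exact (mem_inf.1 (hle (mem_zpowers _))).2
    obtain ⟨α, β, hab⟩ := Int.isCoprime_iff_gcd_eq_one.2 (show Int.gcd ((2 : ℕ) ^ e : ℕ) (m : ℕ) = 1 by
      rw [Int.gcd_natCast_natCast]
      exact Nat.Coprime.pow_left _ (Nat.coprime_two_left.2 hm))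
    have hn : n = σ ^ α * (n ^ m) ^ β := by
      rw [← zpow_natCast n m, show σ = n ^ ((2 ^ e : ℕ) : ℤ) from (zpow_natCast n _).symm, ← zpow_mul,
        ← zpow_mul, ← zpow_add, show ((2 ^ e : ℕ) : ℤ) * α + (m : ℤ) * β = 1 by linarith [hab],
        zpow_one]
    rw [hn]
    refine mul_mem (zpow_mem (mem_centralizer_iff.2 fun x hx => Subtype.ext ?_) α)
      (zpow_mem (mem_centralizer_iff.2 fun x hx => Subtype.ext (hcomm _ hx _ hτ)) β)
    exact (mul_inv_eq_iff_eq_mul.1 (hcent _ hx)).symm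
  let _ : CommGroup ↥S := { (inferInstance : Group ↥S) with
    mul_comm := fun x y => Subtype.ext (hcomm _ x.2 _ y.2) }
  let φ : MulAut ↥S :=
    { toFun := fun x => ⟨(σ : G) * x * (σ : G)⁻¹, hσS x x.2⟩
      invFun := fun x => ⟨(σ : G)⁻¹ * x * (σ : G), by
        have := (mem_normalizer_iff.1 (inv_mem hσN) ⟨x, h.SA x.2⟩).1 x.2
        simpa [hmem] using this⟩
      left_inv := fun x => Subtype.ext (by simp only; group)
      right_inv := fun x => Subtype.ext (by simp only; group)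
      map_mul' := fun x y => Subtype.ext (by simp only [Subgroup.coe_mul]; group) }
  have hφm : φ ^ m = 1 := by
    have hp : ∀ (i : ℕ) (x : ↥S), (((φ ^ i) x : ↥S) : G) = (σ : G) ^ i * x * ((σ : G) ^ i)⁻¹ := by
      intro i
      induction i with
      | zero => intro x; simp
      | succ i ih =>
        intro x
        rw [pow_succ', MulAut.mul_apply]
        show (σ : G) * ((φ ^ i) x : ↥S) * (σ : G)⁻¹ = _
        rw [ih, pow_succ']; group
    refine MulEquiv.ext fun x => Subtype.ext ?_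
    rw [hp, show (σ : G) ^ m = 1 by exact_mod_cast congrArg Subtype.val hσm]
    simp
  let u₀ : ↥S := ⟨u, hu⟩
  have hu₀ : u₀ ^ 2 = 1 := Subtype.ext (by rw [Subgroup.coe_pow, pow_two]; exact hu2)
  have h01 : φ u₀ ≠ u₀ := fun e' => humove (congrArg Subtype.val e')
  have h02 : φ (φ u₀) ≠ u₀ := by
    intro e'
    obtain ⟨j, hj⟩ := hm
    have h2 : ∀ i : ℕ, (φ ^ (2 * i)) u₀ = u₀ := fun i => by
      induction i with
      | zero => simp
      | succ i ih =>
        rw [Nat.mul_succ, pow_add, MulAut.mul_apply, show (φ ^ 2) u₀ = u₀ by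
          rw [pow_two, MulAut.mul_apply]; exact e', ih]
    have := congrArg (fun ψ : MulAut ↥S => ψ u₀) hφm
    rw [hj, pow_succ', MulAut.mul_apply, h2] at this
    exact h01 (by simpa using this)
  let T : Finset ↥S := {1, ⟨r * r, h.z_mem⟩, ⟨f, hf⟩, ⟨f * (r * r), mul_mem hf h.z_mem⟩}
  have hT : ∀ x : ↥S, x ^ 2 = 1 → x ∈ T := fun x hx => by
    rcases hW x x.2 (by rw [← pow_two]; exact congrArg Subtype.val hx) with e' | e' | e' | e' <;>
      simp only [T, Finset.mem_insert, Finset.mem_singleton, Subtype.ext_iff, Subgroup.coe_one] <;> tauto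
  have horb : ∀ x : ↥S, x ≠ 1 → x ^ 2 = 1 → ∃ i : ℕ, (φ ^ i) u₀ = x := by
    intro x hx1 hx2
    have hsub : ({1, u₀, φ u₀, φ (φ u₀)} : Finset ↥S) ⊆ T := by
      intro y hy
      simp only [Finset.mem_insert, Finset.mem_singleton] at hy
      rcases hy with rfl | rfl | rfl | rfl <;> apply hT <;> simp [← map_pow, hu₀]
    have hu01 : u₀ ≠ 1 := fun e' => h01 (by rw [e', map_one])
    have hcard : ({1, u₀, φ u₀, φ (φ u₀)} : Finset ↥S).card = 4 := by
      rw [Finset.card_insert_of_notMem, Finset.card_insert_of_notMem, Finset.card_insert_of_notMem,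
        Finset.card_singleton]
      · simp only [Finset.mem_singleton]
        exact fun e' => h01 (φ.injective e').symm
      · simp only [Finset.mem_insert, Finset.mem_singleton, not_or]
        exact ⟨Ne.symm h01, Ne.symm h02⟩
      · simp only [Finset.mem_insert, Finset.mem_singleton, not_or]
        exact ⟨Ne.symm hu01, fun e' => hu01 ((MulEquiv.map_eq_one_iff φ).1 e'.symm),
          fun e' => hu01 ((MulEquiv.map_eq_one_iff φ).1 ((MulEquiv.map_eq_one_iff φ).1 e'.symm))⟩
    have heq := Finset.eq_of_subset_of_card_le hsub (by rw [hcard]; exact Finset.card_le_four)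
    have hxT := hT x hx2
    rw [← heq] at hxT
    simp only [Finset.mem_insert, Finset.mem_singleton] at hxT
    rcases hxT with rfl | rfl | rfl | rfl
    · exact absurd rfl hx1
    · exact ⟨0, by simp⟩
    · exact ⟨1, by simp⟩
    · exact ⟨2, by rw [pow_two, MulAut.mul_apply]⟩
  obtain ⟨k, d, ⟨ε⟩⟩ := HallHigman.homocyclic_of_transitive_involutions h.isS fun x y hx1 hx2 hy1 hy2 => by
    obtain ⟨i, hi⟩ := horb x hx1 hx2
    obtain ⟨j, hj⟩ := horb y hy1 hy2
    exact ⟨φ ^ j * (φ ^ i)⁻¹, by rw [MulAut.mul_apply, ← hi, MulAut.inv_apply_self, hj]⟩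
  -- exponent at least four
  have hk : 2 ≤ k := by
    by_contra hlt
    refine h.z_ne ?_
    have h2 : ε ⟨r, h.rS⟩ ^ 2 = 1 := by
      funext i
      rw [Pi.pow_apply, Pi.one_apply]
      refine Multiplicative.toAdd.injective ?_
      rw [toAdd_pow, toAdd_one, nsmul_eq_mul,
        (ZMod.natCast_eq_zero_iff 2 (2 ^ k)).2 ((pow_dvd_pow 2 (show k ≤ 1 by omega)).trans (pow_one 2).dvd), zero_mul]
    rw [← map_pow, MulEquiv.map_eq_one_iff, pow_two] at h2
    exact congrArg Subtype.val h2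
  -- rank exactly two
  let c₀ : Multiplicative (ZMod (2 ^ k)) := Multiplicative.ofAdd ((2 ^ (k - 1) : ℕ) : ZMod (2 ^ k))
  have hc2 : c₀ ^ 2 = 1 := by
    rw [← ofAdd_nsmul, ofAdd_eq_one, nsmul_eq_mul, ← Nat.cast_mul, ZMod.natCast_eq_zero_iff,
      ← pow_succ', show k - 1 + 1 = k by omega]
  have hc1 : c₀ ≠ 1 := by
    rw [ne_eq, ofAdd_eq_one, ZMod.natCast_eq_zero_iff, Nat.pow_dvd_pow_iff_le_right Nat.one_lt_two]
    omega
  have hinv : ∀ v : Fin d → Multiplicative (ZMod (2 ^ k)), v ^ 2 = 1 → ε.symm v ∈ T := fun v hv =>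
    hT _ (by rw [← map_pow, hv, map_one])
  have hd : d = 2 := by
    have hle : d ≤ 2 := by
      by_contra hd
      push Not at hd
      let g : (Fin d → Bool) → (Fin d → Multiplicative (ZMod (2 ^ k))) := fun b i => if b i then c₀ else 1
      have hg2 : ∀ b, g b ^ 2 = 1 := fun b => funext fun i => by
        simp only [Pi.pow_apply, Pi.one_apply, g]
        split <;> simp [hc2]
      have hginj : Function.Injective g := fun b b' hb => funext fun i => by
        have := congrFun hb i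
        simp only [g] at this
        cases hbi : b i <;> cases hbi' : b' i <;> simp_all
      have := Finset.card_le_card_of_injOn (s := (Finset.univ : Finset (Fin d → Bool)))
        (fun i => ε.symm (g i)) (fun i _ => hinv _ (hg2 i)) (fun i _ j _ hij => hginj (ε.symm.injective hij))
      rw [Finset.card_univ, Fintype.card_fun, Fintype.card_bool, Fintype.card_fin] at this
      have h8 : 2 ^ 3 ≤ 2 ^ d := Nat.pow_le_pow_right two_pos hd
      exact absurd ((h8.trans this).trans Finset.card_le_four) (by norm_num)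
    interval_cases d
    · exfalso
      exact h.z_ne (congrArg Subtype.val (ε.injective (funext fun i => i.elim0) :
        (⟨r * r, h.z_mem⟩ : ↥S) = 1))
    · exfalso
      have hz' : ∀ x : ↥S, x ^ 2 = 1 → x = 1 ∨ x = ε.symm (fun _ => c₀) := by
        intro x hx
        obtain ⟨l, rfl⟩ : ∃ l, k = l + 1 := ⟨k - 1, by omega⟩
        have h2 := congrFun (show ε x ^ 2 = 1 by rw [← map_pow, hx, map_one]) 0
        rw [Pi.pow_apply, Pi.one_apply] at h2
        have h3 := Homocyclic.zmod_two_torsion l (Multiplicative.toAdd (ε x 0)) (by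
          rw [← two_nsmul, ← toAdd_pow, h2, toAdd_one])
        rcases h3 with h3 | h3
        · exact Or.inl (ε.injective (funext fun i => by
            rw [Fin.fin_one_eq_zero i, map_one]; exact Multiplicative.toAdd.injective h3))
        · exact Or.inr (by
            rw [MulEquiv.eq_symm_apply]
            funext i
            rw [Fin.fin_one_eq_zero i]
            exact Multiplicative.toAdd.injective h3)
      rcases hz' ⟨f, hf⟩ (Subtype.ext (by rw [Subgroup.coe_pow, pow_two]; exact hf2)) with e1 | e1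
      · exact hf1 (congrArg Subtype.val e1)
      rcases hz' ⟨r * r, h.z_mem⟩ (Subtype.ext (by rw [Subgroup.coe_pow, pow_two]; exact h.z_mul)) with e2 | e2
      · exact h.z_ne (congrArg Subtype.val e2)
      · exact hfz (congrArg Subtype.val (e1.trans e2.symm))
    · rfl
  subst hd
  let pr : (Fin 2 → Multiplicative (ZMod (2 ^ k))) ≃* Multiplicative (ZMod (2 ^ k) × ZMod (2 ^ k)) :=
    { toFun := fun v => Multiplicative.ofAdd ((v 0).toAdd, (v 1).toAdd)
      invFun := fun p => ![Multiplicative.ofAdd p.toAdd.1, Multiplicative.ofAdd p.toAdd.2]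
      left_inv := fun v => by funext i; fin_cases i <;> simp
      right_inv := fun p => by simp
      map_mul' := fun v w => by simp [← ofAdd_add, Prod.mk_add_mk] }
  -- pass to `A / O(A)`
  set N₀ := Cfsg.pPrimeCore 2 ↥A
  haveI : N₀.Normal := Cores.pPrimeCore_normal 2 _
  set q := QuotientGroup.mk' N₀
  have hq : Function.Surjective q := QuotientGroup.mk'_surjective N₀
  set Q := P₀.mapSurjective hq
  have hinjq : ∀ x y : (P₀ : Subgroup ↥A), q x = q y → x = y := by
    intro x y hxy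
    have h1 : (x : ↥A)⁻¹ * y ∈ N₀ := QuotientGroup.eq.1 hxy
    obtain ⟨j, hj⟩ := P₀.2 (x⁻¹ * y)
    have h2 := orderOf_dvd_of_pow_eq_one hj
    rw [← Subgroup.orderOf_coe] at h2
    have h3 : orderOf ((x : ↥A)⁻¹ * y) ∣ Nat.card N₀ := Subgroup.orderOf_dvd_natCard N₀ h1
    have h4 := Nat.eq_one_of_dvd_coprimes ((Cores.coprime_card_pPrimeCore (G := ↥A) 2).symm.pow_left j)
      h2 h3
    exact Subtype.ext (inv_mul_eq_one.1 (orderOf_eq_one_iff.1 h4))
  let eQ : (Q : Subgroup (↥A ⧸ N₀)) ≃* Multiplicative (ZMod (2 ^ k) × ZMod (2 ^ k)) :=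
    ((MulEquiv.ofBijective (q.subgroupMap (P₀ : Subgroup ↥A))
      ⟨fun x y hxy => hinjq x y (congrArg Subtype.val hxy), q.subgroupMap_surjective _⟩).symm.trans
      (subgroupOfEquivOfLe h.SA)).trans (ε.trans pr)
  haveI hQn : (Q : Subgroup (↥A ⧸ N₀)).Normal :=
    BrauerHomo.normal_of_homocyclic hk _ _ rfl Q eQ fun M hM hMo => by
      refine le_bot_iff.1 ((Cores.le_pPrimeCore hM (Nat.coprime_two_right.2 hMo)).trans ?_)
      rw [Cores.pPrimeCore_quotient_self]
  have hperf : ∀ (K : Subgroup (↥A ⧸ N₀)) [K.Normal], IsCyclic ((↥A ⧸ N₀) ⧸ K) → K = ⊤ := by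
    intro K _ hcyc
    let _ : CommGroup ((↥A ⧸ N₀) ⧸ K) := IsCyclic.commGroup
    rw [eq_top_iff]
    intro x _
    obtain ⟨a, rfl⟩ := hq x
    exact (QuotientGroup.eq_one_iff _).1 (h.hom_eq_one ((QuotientGroup.mk' K).comp q) a)
  have hC : normalizer ((Q : Subgroup (↥A ⧸ N₀)) : Set (↥A ⧸ N₀)) ≤ centralizer ((Q : Subgroup (↥A ⧸ N₀)) : Set (↥A ⧸ N₀)) := by
    have h13 := Homocyclic.relIndex_one_or_three Q k (by omega) eQ
    rw [normalizer_eq_top (H := (Q : Subgroup (↥A ⧸ N₀))), relIndex_top_right] at h13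
    rw [normalizer_eq_top (H := (Q : Subgroup (↥A ⧸ N₀)))]
    haveI : (centralizer ((Q : Subgroup (↥A ⧸ N₀)) : Set (↥A ⧸ N₀))).Normal := inferInstance
    rcases h13 with h1 | h3
    · exact (index_eq_one.1 h1).ge
    · exact (hperf _ (isCyclic_of_prime_card (p := 3) (hp := ⟨Nat.prime_three⟩)
        (by rw [← index_eq_card, h3]))).ge
  have hK := MonoidHom.ker_transferSylow_isComplement' Q hC
  have htop : (MonoidHom.transferSylow Q hC).ker = ⊤ := by
    rw [eq_top_iff]
    intro x _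
    obtain ⟨a, rfl⟩ := hq x
    haveI : IsMulCommutative (Q : Subgroup (↥A ⧸ N₀)) :=
      ⟨⟨fun x y => eQ.injective (by rw [map_mul, map_mul, mul_comm])⟩⟩
    let _ : CommGroup (Q : Subgroup (↥A ⧸ N₀)) :=
      { (inferInstance : Group (Q : Subgroup (↥A ⧸ N₀))) with mul_comm := mul_comm' }
    exact h.hom_eq_one (X := (Q : Subgroup (↥A ⧸ N₀))) ((MonoidHom.transferSylow Q hC).comp q) a
  rw [htop] at hK
  have hbot := hK.disjoint
  rw [top_disjoint] at hbot
  have h1 : (q.subgroupMap (P₀ : Subgroup ↥A) ⟨⟨r, h.rA⟩, h.rS⟩ : ↥A ⧸ N₀) ∈ (⊥ : Subgroup _) :=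
    hbot ▸ (q.subgroupMap (P₀ : Subgroup ↥A) ⟨⟨r, h.rA⟩, h.rS⟩).2
  have h2 := hinjq ⟨⟨r, h.rA⟩, h.rS⟩ 1 (by rw [Subgroup.coe_one, map_one]; exact mem_bot.1 h1)
  have h3 : r = 1 := congrArg (fun x : (P₀ : Subgroup ↥A) => ((x : ↥A) : G)) h2
  exact h.z_ne (by rw [h3, one_mul])

end Setup

end Cfsg.Agent.Components.CyclicFour
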