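/-
The case of a `P`-invariant self-centralizing abelian subgroup `C` of `S` of rank two.
Main results: `Setup.false_of_rank_two`.
-/
import Cfsg.Agent.Lib.Components.CyclicFour.Abelian
import Cfsg.Agent.Lib.PGroup.UniqueOrderP
import Cfsg.Agent.S0215

set_option autoImplicit false
set_option linter.style.haveILetI false
set_option linter.unusedSectionVars false

namespace Cfsg.Agent.Components.CyclicFour

open Subgroup
open scoped commutatorElement

variable {G : Type*} [Group G] [Finite G] {A S P : Subgroup G} {t r : G}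

/-- A subgroup of index two given by a complementary coset. -/
theorem relIndex_two_of_coset {S M : Subgroup G} {e : G} (heS : e ∈ S) (heM : e ∉ M)
    (hcov : ∀ x ∈ S, x ∈ M ∨ x * e ∈ M) : M.relIndex S = 2 := by
  rw [relIndex, index_eq_two_iff]
  refine ⟨⟨e, heS⟩, fun x => ?_⟩
  simp only [mem_subgroupOf, Subgroup.coe_mul]
  by_cases hx : (x : G) ∈ M
  · exact Or.inr ⟨hx, fun h => heM (by simpa using mul_mem (inv_mem hx) h)⟩
  · exact Or.inl ⟨(hcov x x.2).resolve_left hx, hx⟩

namespace Setup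

variable (h : Setup A S P t r) {C : Subgroup G} (hCS : C ≤ S)
  (hCP : ∀ p ∈ P, ∀ x ∈ C, p * x * p⁻¹ ∈ C) (hCc : ∀ x ∈ C, ∀ y ∈ C, x * y = y * x)
  (hCC : ∀ x ∈ S, (∀ y ∈ C, x * y = y * x) → x ∈ C)
  {f : G} (hfC : f ∈ C) (hf2 : f * f = 1) (hf1 : f ≠ 1) (hfz : f ≠ r * r)

section
include h hCS hCP hCc hCC hfC hf2 hf1 hfz

theorem tconjC {x : G} (hx : x ∈ C) : t * x * t ∈ C := by
  have := hCP t h.tP x hx
  rwa [h.inv_t] at this

theorem tf : t * f * t = f * (r * r) :=
  h.move (hCS hfC) hf2 (hCc _ hfC _ (tconjC h hCS hCP hCc hCC hfC hf2 hf1 hfz hfC)) hf1 hfz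

theorem z_memC : r * r ∈ C :=
  hCC _ h.z_mem fun _ hy => (h.z_comm (h.SP (hCS hy))).symm

theorem involutions {x : G} (hx : x ∈ C) (hx2 : x * x = 1) :
    x = 1 ∨ x = r * r ∨ x = f ∨ x = f * (r * r) := by
  by_cases h1 : x = 1
  · exact Or.inl h1
  by_cases h2 : x = r * r
  · exact Or.inr (Or.inl h2)
  have hm := h.move (hCS hx) hx2 (hCc _ hx _ (tconjC h hCS hCP hCc hCC hfC hf2 hf1 hfz hx)) h1 h2
  have hf' := tf h hCS hCP hCc hCC hfC hf2 hf1 hfz
  have hzx : r * r * f = f * (r * r) := (h.z_comm (h.SP (hCS hfC))).symm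
  have hfix : t * (x * f) = x * f * t := by
    calc t * (x * f) = t * x * (t * t) * f * (t * t) := by rw [h.tt]; group
      _ = (t * x * t) * (t * f * t) * t := by group
      _ = x * (r * r * f) * (r * r) * t := by rw [hm, hf']; group
      _ = x * f * (r * r * (r * r)) * t := by rw [hzx]; group
      _ = x * f * t := by rw [h.z_mul, mul_one]
  have hxf2 : x * f * (x * f) = 1 := by
    calc x * f * (x * f) = x * (f * x) * f := by group
      _ = x * x * (f * f) := by rw [hCc f hfC x hx]; group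
      _ = 1 := by rw [hx2, hf2, one_mul]
  have hback : x = x * f * f := by rw [mul_assoc, hf2, mul_one]
  rcases h.fix_sq (mul_mem (hCS hx) (hCS hfC)) hxf2 hfix with e | e
  · exact Or.inr (Or.inr (Or.inl (by rw [hback, e, one_mul])))
  · exact Or.inr (Or.inr (Or.inr (by rw [hback, e, hzx])))

theorem conj_f {p : G} (hp : p ∈ P) : p * f * p⁻¹ = f ∨ p * f * p⁻¹ = f * (r * r) := by
  rcases involutions h hCS hCP hCc hCC hfC hf2 hf1 hfz (hCP p hp f hfC)
      (by rw [show p * f * p⁻¹ * (p * f * p⁻¹) = p * (f * f) * p⁻¹ by group, hf2]; group) with e | e | e | e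
  · exact absurd (conj_eq_one_iff.1 e) hf1
  · exfalso
    refine hfz ?_
    calc f = p⁻¹ * (p * f * p⁻¹) * p := by group
      _ = p⁻¹ * (r * r * p) := by rw [e]; group
      _ = r * r := by rw [← h.z_comm hp]; group
  · exact Or.inl e
  · exact Or.inr e

/-- `t` fixes more of `C` than `{1, z}`: otherwise `|S| = 8`, which is impossible. -/
theorem rC : r ∈ C := by
  by_contra hr
  have hfix : ∀ x ∈ C, t * x = x * t → x * x = 1 := by
    intro x hx htx
    obtain ⟨i, rfl⟩ := mem_zpowers_iff.1 (h.fix x (hCS hx) htx)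
    have hr4 : r ^ (4 : ℤ) = 1 := by
      have := pow_orderOf_eq_one r
      rw [h.r4] at this; exact_mod_cast this
    rcases Int.even_or_odd i with ⟨l, hl⟩ | ⟨l, hl⟩
    · rw [hl, ← zpow_add, show l + l + (l + l) = 4 * l by ring, zpow_mul, hr4, one_zpow]
    · refine absurd ?_ hr
      have hz := zpow_mem (z_memC h hCS hCP hCc hCC hfC hf2 hf1 hfz) (-l)
      have : r = r ^ i * (r * r) ^ (-l) := by
        rw [← zpow_two, ← zpow_mul, ← zpow_add, hl, show 2 * l + 1 + 2 * -l = 1 by ring, zpow_one]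
      rw [this]; exact mul_mem hx hz
  have hf' := tf h hCS hCP hCc hCC hfC hf2 hf1 hfz
  have hzC := z_memC h hCS hCP hCc hCC hfC hf2 hf1 hfz
  have htC := fun {x : G} (hx : x ∈ C) => tconjC h hCS hCP hCc hCC hfC hf2 hf1 hfz hx
  -- `C` has exponent two
  have hexp : ∀ x ∈ C, x * x = 1 := by
    by_contra! hne
    obtain ⟨x₀, hx₀, hx₀2⟩ := hne
    obtain ⟨j, hj⟩ := h.isS ⟨x₀, hCS hx₀⟩
    classical
    have hj' : x₀ ^ 2 ^ j = 1 := congrArg Subtype.val hj
    have hex : ∃ i, x₀ ^ 2 ^ i = 1 := ⟨j, hj'⟩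
    obtain ⟨i, hi⟩ : ∃ i, Nat.find hex = i + 2 := ⟨Nat.find hex - 2, by
      by_contra hlt
      refine hx₀2 ?_
      have := Nat.find_spec hex
      obtain h0 | h1 : Nat.find hex = 0 ∨ Nat.find hex = 1 := by omega
      · rw [h0, pow_zero, pow_one] at this; rw [this, one_mul]
      · rw [h1, pow_one, pow_two] at this; exact this⟩
    set x := x₀ ^ 2 ^ i
    have hx : x ∈ C := pow_mem hx₀ _
    have hx4 : x * x * (x * x) = 1 := by
      have := Nat.find_spec hex
      rw [hi, pow_add, pow_mul] at this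
      simpa [pow_succ, mul_assoc] using this
    have hx2 : x * x ≠ 1 := fun e => by
      have := Nat.find_min hex (show i + 1 < Nat.find hex by omega)
      rw [pow_succ, pow_mul, pow_two] at this
      exact this e
    set x' := t * x * t with hx'
    have hvfix : t * (x * x') = x * x' * t := by
      calc t * (x * x') = t * x * t * x * t := by rw [hx']; group
        _ = x' * x * t := by rw [hx']
        _ = x * x' * t := by rw [hCc x' (htC hx) x hx]
    have hv := hfix _ (mul_mem hx (htC hx)) hvfix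
    rcases h.fix_sq (mul_mem (hCS hx) (hCS (htC hx))) hv hvfix with e | e
    · -- `x` is inverted; then `x²` is fixed and `x f` is fixed
      have hxi : x' = x⁻¹ := eq_inv_of_mul_eq_one_right e
      have hsq : x * x = r * r := by
        refine (h.fix_sq (mul_mem (hCS hx) (hCS hx)) hx4 ?_).resolve_left hx2
        calc t * (x * x) = x' * x' * t := by
              rw [hx', show t * x * t * (t * x * t) * t = t * x * (t * t) * x * (t * t) by group, h.tt]; group
          _ = (x * x)⁻¹ * t := by rw [hxi]; group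
          _ = x * x * t := by rw [inv_eq_of_mul_eq_one_right hx4]
      refine hx2 ?_
      have hfx : t * (x * f) = x * f * t := by
        calc t * (x * f) = t * x * (t * t) * f * (t * t) := by rw [h.tt]; group
          _ = x' * (t * f * t) * t := by rw [hx']; group
          _ = x⁻¹ * f * (x * x) * t := by rw [hxi, hf', hsq]; group
          _ = x⁻¹ * (f * x) * x * t := by group
          _ = x⁻¹ * (x * f) * x * t := by rw [hCc f hfC x hx]
          _ = f * x * t := by group
          _ = x * f * t := by rw [hCc f hfC x hx]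
      have := hfix _ (mul_mem hx hfC) hfx
      rw [show x * f * (x * f) = x * (f * x) * f by group, hCc f hfC x hx,
        show x * (x * f) * f = x * x * (f * f) by group, hf2, mul_one] at this
      exact this
    · -- then `x f` is inverted
      have hxi : x' = x⁻¹ * (r * r) := by rw [← e, inv_mul_cancel_left]
      have hy : t * (x * f) * t = (x * f)⁻¹ := by
        calc t * (x * f) * t = x' * (t * f * t) := by
              rw [hx', show t * x * t * (t * f * t) = t * x * (t * t) * f * t by group, h.tt]; group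
          _ = x⁻¹ * (r * r) * f * (r * r) := by rw [hxi, hf']; group
          _ = x⁻¹ * f := by
              rw [show x⁻¹ * (r * r) * f * (r * r) = x⁻¹ * ((r * r) * f) * (r * r) by group,
                ← h.z_comm (h.SP (hCS hfC)), show x⁻¹ * (f * (r * r)) * (r * r) = x⁻¹ * f * ((r * r) * (r * r)) by group,
                h.z_mul, mul_one]
          _ = f * x⁻¹ := hCc _ (inv_mem hx) _ hfC
          _ = (x * f)⁻¹ := by rw [mul_inv_rev, inv_eq_of_mul_eq_one_right hf2]
      have hsq : x * x = r * r := by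
        refine (h.fix_sq (mul_mem (hCS hx) (hCS hx)) hx4 ?_).resolve_left hx2
        calc t * (x * x) = x' * x' * t := by
              rw [hx', show t * x * t * (t * x * t) * t = t * x * (t * t) * x * (t * t) by group, h.tt]; group
          _ = x⁻¹ * ((r * r) * x⁻¹) * (r * r) * t := by rw [hxi]; group
          _ = x⁻¹ * (x⁻¹ * (r * r)) * (r * r) * t := by
              rw [← h.z_comm (inv_mem (h.SP (hCS hx)))]
          _ = (x * x)⁻¹ * ((r * r) * (r * r)) * t := by group
          _ = x * x * t := by rw [h.z_mul, mul_one, inv_eq_of_mul_eq_one_right hx4]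
      refine hx2 (hfix x hx ?_)
      calc t * x = t * x * (t * t) := by rw [h.tt, mul_one]
        _ = x' * t := by rw [hx']; group
        _ = x⁻¹ * (r * r) * t := by rw [hxi]
        _ = x * t := by rw [← hsq]; group
  have hCW : ∀ x ∈ C, x = 1 ∨ x = r * r ∨ x = f ∨ x = f * (r * r) := fun x hx =>
    involutions h hCS hCP hCc hCC hfC hf2 hf1 hfz hx (hexp x hx)
  have hcentf : ∀ x ∈ S, x * f * x⁻¹ = f → x ∈ C := by
    intro x hx hxf
    have hxf' : x * f = f * x := mul_inv_eq_iff_eq_mul.1 hxf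
    refine hCC x hx fun y hy => ?_
    rcases hCW y hy with rfl | rfl | rfl | rfl
    · simp
    · exact h.z_comm (h.SP hx)
    · exact hxf'
    · rw [← mul_assoc, hxf', mul_assoc, h.z_comm (h.SP hx), ← mul_assoc]
  have hrf : r * f * r⁻¹ = f * (r * r) :=
    (conj_f h hCS hCP hCc hCC hfC hf2 hf1 hfz h.rP).resolve_left fun e => hr (hcentf r h.rS e)
  have hSdec : ∀ x ∈ S, x ∈ C ∨ x * r ∈ C := by
    intro x hx
    rcases conj_f h hCS hCP hCc hCC hfC hf2 hf1 hfz (h.SP hx) with e | e
    · exact Or.inl (hcentf x hx e)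
    · refine Or.inr (hcentf _ (mul_mem hx h.rS) ?_)
      rw [show x * r * f * (x * r)⁻¹ = x * (r * f * r⁻¹) * x⁻¹ by group, hrf,
        show x * (f * (r * r)) * x⁻¹ = (x * f * x⁻¹) * (x * (r * r) * x⁻¹) by group, e,
        h.z_comm (h.SP hx), show f * (r * r) * (r * r * x * x⁻¹) = f * ((r * r) * (r * r)) by group,
        h.z_mul, mul_one]
  have hfr : f ∉ zpowers r := fun hm => by
    obtain ⟨i, hi⟩ := mem_zpowers_iff.1 hm
    rw [← hi, show r * r ^ i * r⁻¹ = r ^ i by group] at hrf
    exact h.z_ne (mul_left_cancel (a := r ^ i) (by rw [mul_one]; exact hrf.symm))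
  have hzinv : (r * r)⁻¹ = r * r := inv_eq_of_mul_eq_one_right h.z_mul
  have hzf : r * r * f = f * (r * r) := (h.z_comm (h.SP (hCS hfC))).symm
  have hact : ∀ c ∈ C, r⁻¹ * c * r = t * c * t ∧ (c * (t * c * t) = 1 ∨ c * (t * c * t) = r * r) := by
    have htz : t * (r * r) * t = r * r := by rw [h.z_comm h.tP, mul_assoc, h.tt, mul_one]
    have hrz : r⁻¹ * (r * r) * r = r * r := by group
    have hrf' : r⁻¹ * f * r = f * (r * r) := by
      calc r⁻¹ * f * r = r⁻¹ * (f * (r * r)) * r * (r * r)⁻¹ := by group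
        _ = r⁻¹ * (r * f * r⁻¹) * r * (r * r)⁻¹ := by rw [hrf]
        _ = f * (r * r) := by rw [hzinv]; group
    intro c hc
    rcases hCW c hc with e | e | e | e <;> subst c
    · exact ⟨by simp [h.tt], Or.inl (by simp [h.tt])⟩
    · exact ⟨hrz.trans htz.symm, Or.inl (by rw [htz, h.z_mul])⟩
    · exact ⟨hrf'.trans hf'.symm, Or.inr (by rw [hf', ← mul_assoc, hf2, one_mul])⟩
    · have e1 : r⁻¹ * (f * (r * r)) * r = f * (r * r) * (r * r) := by
        calc r⁻¹ * (f * (r * r)) * r = (r⁻¹ * f * r) * (r⁻¹ * (r * r) * r) := by group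
          _ = f * (r * r) * (r * r) := by rw [hrf', hrz]
      have e2 : t * (f * (r * r)) * t = f * (r * r) * (r * r) := by
        calc t * (f * (r * r)) * t = t * f * (t * t) * (r * r) * t := by rw [h.tt]; group
          _ = (t * f * t) * (t * (r * r) * t) := by group
          _ = f * (r * r) * (r * r) := by rw [hf', htz]
      refine ⟨e1.trans e2.symm, Or.inr ?_⟩
      rw [e2]
      calc f * (r * r) * (f * (r * r) * (r * r)) = f * ((r * r) * f) * ((r * r) * (r * r)) := by group
        _ = f * f * (r * r) := by rw [hzf, h.z_mul, mul_one]; group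
        _ = r * r := by rw [hf2, one_mul]
  have hti : r⁻¹ * f = f * (r * r) * r⁻¹ := by
    rw [← hf', ← (hact f hfC).1]; group
  have hi : (zpowers r).relIndex S = 2 := by
    have hrr : r * r ∈ zpowers r := mul_mem (mem_zpowers r) (mem_zpowers r)
    refine relIndex_two_of_coset (hCS hfC) hfr fun x hx => ?_
    rcases hSdec x hx with e | e
    · rcases hCW x e with e' | e' | e' | e' <;> subst x
      · exact Or.inl (one_mem _)
      · exact Or.inl hrr
      · exact Or.inr (by rw [hf2]; exact one_mem _)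
      · refine Or.inr ?_
        rw [mul_assoc, hzf, ← mul_assoc, hf2, one_mul]
        exact hrr
    · obtain ⟨c, hc, rfl⟩ : ∃ c ∈ C, x = c * r⁻¹ := ⟨x * r, e, by group⟩
      rcases hCW c hc with e' | e' | e' | e' <;> subst c
      · exact Or.inl (by rw [one_mul]; exact inv_mem (mem_zpowers r))
      · exact Or.inl (mul_mem hrr (inv_mem (mem_zpowers r)))
      · refine Or.inr ?_
        rw [mul_assoc, hti, ← mul_assoc, ← mul_assoc, hf2, one_mul]
        exact mul_mem hrr (inv_mem (mem_zpowers r))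
      · refine Or.inr ?_
        rw [show f * (r * r) * r⁻¹ * f = f * (r * r) * (r⁻¹ * f) by group, hti,
          show f * (r * r) * (f * (r * r) * r⁻¹) = f * ((r * r) * f) * (r * r) * r⁻¹ by group, hzf,
          show f * (f * (r * r)) * (r * r) * r⁻¹ = (f * f) * ((r * r) * (r * r)) * r⁻¹ by group, hf2,
          h.z_mul, one_mul, one_mul]
        exact inv_mem (mem_zpowers r)
  obtain ⟨a, haA, ha⟩ := h.exists_conj_of_index_two (M := zpowers r) (zpowers_le.2 h.rS) hi (hCS hfC) hf2 hf1 hfr
  have haz : a * f * a⁻¹ = r * r := by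
    refine (h.fix_sq (zpowers_le.2 h.rS ha) (by
      rw [show a * f * a⁻¹ * (a * f * a⁻¹) = a * (f * f) * a⁻¹ by group, hf2]; group) ?_).resolve_left
      fun e => hf1 (conj_eq_one_iff.1 e)
    obtain ⟨i, hi'⟩ := mem_zpowers_iff.1 ha
    rw [← hi']
    exact (show Commute t r from h.tr).zpow_right i
  refine hfz (h.eq_of_fusion h.maxP le_rfl ?_ (mul_mem h.tP (inv_mem h.rP)) ?_ ?_ (mem_sup_left haA) haz)
  · intro q hq _
    rcases h.dec hq with hS | ⟨x, hx, rfl⟩
    · rcases hSdec q hS with e | e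
      · exact Or.inl (hexp q e)
      · obtain ⟨c, hc, rfl⟩ : ∃ c ∈ C, q = c * r⁻¹ := ⟨q * r, e, by group⟩
        rw [show c * r⁻¹ * (c * r⁻¹) = c * (r⁻¹ * c * r) * (r * r)⁻¹ by group, (hact c hc).1, hzinv]
        rcases (hact c hc).2 with e' | e'
        · exact Or.inr (by rw [e', one_mul])
        · exact Or.inl (by rw [e', h.z_mul])
    · rcases hSdec x hx with e | e
      · rw [show x * t * (x * t) = x * (t * x * t) by group]
        exact (hact x e).2
      · obtain ⟨c, hc, rfl⟩ : ∃ c ∈ C, x = c * r⁻¹ := ⟨x * r, e, by group⟩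
        refine Or.inr ?_
        have hrt : t * r⁻¹ * t = r⁻¹ := by
          rw [((show Commute t r from h.tr).inv_right).eq, mul_assoc, h.tt, mul_one]
        have hc' := hCP t h.tP c hc
        rw [h.inv_t] at hc'
        calc c * r⁻¹ * t * (c * r⁻¹ * t) = c * r⁻¹ * t * c * (t * t) * r⁻¹ * t := by rw [h.tt]; group
          _ = c * (r⁻¹ * (t * c * t) * r) * r⁻¹ * (t * r⁻¹ * t) := by group
          _ = c * (t * (t * c * t) * t) * r⁻¹ * r⁻¹ := by rw [(hact _ hc').1, hrt]
          _ = c * ((t * t) * c * (t * t)) * (r * r)⁻¹ := by group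
          _ = r * r := by rw [h.tt, one_mul, mul_one, hexp c hc, hzinv, one_mul]
  · calc t * r⁻¹ * f = t * f * (t * t) * (r * r) * r⁻¹ := by rw [mul_assoc, hti, h.tt]; group
      _ = (t * f * t) * (t * (r * r)) * r⁻¹ := by group
      _ = f * (r * r) * (r * r * t) * r⁻¹ := by rw [tf h hCS hCP hCc hCC hfC hf2 hf1 hfz, h.z_comm h.tP]
      _ = f * ((r * r) * (r * r)) * (t * r⁻¹) := by group
      _ = f * (t * r⁻¹) := by rw [h.z_mul, mul_one]
  · have hcomm : Commute t r⁻¹ := (show Commute t r from h.tr).inv_right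
    calc t * r⁻¹ * (t * r⁻¹) = t * (r⁻¹ * t) * r⁻¹ := by group
      _ = (t * t) * (r⁻¹ * r⁻¹) := by rw [← hcomm.eq]; group
      _ = (r * r)⁻¹ := by rw [h.tt]; group
      _ = r * r := inv_eq_of_mul_eq_one_right h.z_mul

end

end Setup

end Cfsg.Agent.Components.CyclicFour
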