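/-
The case without a `P`-invariant four-group in `S`: the self-centralizing subgroup `C` is cyclic.
Main results: `Setup.false_of_cyclic`.
-/
import Cfsg.Agent.Lib.Components.CyclicFour.RankTwo
import Cfsg.Agent.Lib.Components.FourGroupRank

set_option autoImplicit false
set_option linter.style.haveILetI false
set_option linter.unusedSectionVars false

namespace Cfsg.Agent.Components.CyclicFour

open Subgroup
open scoped commutatorElement

variable {G : Type*} [Group G] [Finite G] {A S P C : Subgroup G} {t r : G}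

namespace Setup

/-- `S` contains a four-group normal in `P`. -/
theorem false_of_cyclic (h : Setup A S P t r) (hCS : C ≤ S)
    (hCP : ∀ p ∈ P, ∀ x ∈ C, p * x * p⁻¹ ∈ C) (hCc : ∀ x ∈ C, ∀ y ∈ C, x * y = y * x)
    (hCC : ∀ x ∈ S, (∀ y ∈ C, x * y = y * x) → x ∈ C)
    (hCone : ∀ y ∈ C, y * y = 1 → y = 1 ∨ y = r * r)
    (hnoW : ∀ f ∈ S, f * f = 1 → (∀ p ∈ P, p * f * p⁻¹ = f ∨ p * f * p⁻¹ = f * (r * r)) →
      f = 1 ∨ f = r * r) : False := by
  haveI : Fact (Nat.Prime 2) := ⟨Nat.prime_two⟩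
  classical
  set z : G := r * r with hz_def
  have hz2 : z * z = 1 := h.z_mul
  have hz1 : z ≠ 1 := h.z_ne
  have hzc : ∀ p ∈ P, p * z = z * p := fun p hp => h.z_comm hp
  obtain ⟨e, heS, he2, he1, hez⟩ := h.exists_e
  obtain ⟨a', ha', hCa'⟩ := PGroup.isCyclic_of_abelian_unique (p := 2) h.isS (A := C.subgroupOf S)
    (fun x hx y hy => Subtype.ext (hCc _ hx _ hy)) (fun x hx y hy hox hy2 => by
      have hx2 : x * x = 1 := by rw [← pow_two, ← hox]; exact pow_orderOf_eq_one x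
      have hx1 : (x : G) = z := (hCone x hx (congrArg Subtype.val hx2)).resolve_left fun e => by
        rw [show x = 1 from Subtype.ext e] at hox; simp at hox
      rcases hCone y hy (by rw [← pow_two]; exact congrArg Subtype.val hy2) with e | e
      · rw [show y = 1 from Subtype.ext e]; exact one_mem _
      · rw [show y = x from Subtype.ext (e.trans hx1.symm)]; exact mem_zpowers x)
  set a : G := (a' : G) with ha_def
  have haC : a ∈ C := ha'
  have haS : a ∈ S := hCS haC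
  have hCa : ∀ y ∈ C, ∃ k : ℤ, a ^ k = y := fun y hy => by
    have h1 : (⟨y, hCS hy⟩ : ↥S) ∈ zpowers a' := by rw [hCa']; exact hy
    obtain ⟨k, hk⟩ := mem_zpowers_iff.1 h1
    exact ⟨k, congrArg Subtype.val hk⟩
  have hcent : ∀ x ∈ S, x * a = a * x → x ∈ C := fun x hx hxa => hCC x hx fun y hy => by
    obtain ⟨k, rfl⟩ := hCa y hy
    exact (show Commute x a from hxa).zpow_right k
  have hact : ∀ p ∈ P, ∃ s : ℤ, a ^ s = p * a * p⁻¹ := fun p hp => hCa _ (hCP p hp a haC)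
  have hconjpow : ∀ (p : G) (s : ℤ), a ^ s = p * a * p⁻¹ → ∀ i : ℤ, p * a ^ i * p⁻¹ = a ^ (s * i) :=
    fun p s hs i => by rw [← conj_zpow, ← hs, ← zpow_mul]
  have hcomm : ∀ p ∈ P, ∀ x ∈ S, x⁻¹ * (p * x * p⁻¹) ∈ C := by
    intro p hp x hx
    refine hcent _ (mul_mem (inv_mem hx) (h.conjS hp hx)) ?_
    obtain ⟨q, hq⟩ := hact x (h.SP hx)
    obtain ⟨s, hs⟩ := hact p hp
    obtain ⟨s', hs'⟩ := hact p⁻¹ (inv_mem hp)
    have h1 : (p * x * p⁻¹) * a * (p * x * p⁻¹)⁻¹ = x * a * x⁻¹ := by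
      calc (p * x * p⁻¹) * a * (p * x * p⁻¹)⁻¹ = p * (x * (p⁻¹ * a * p⁻¹⁻¹) * x⁻¹) * p⁻¹ := by group
        _ = p * a ^ (q * s') * p⁻¹ := by rw [← hs', hconjpow x q hq]
        _ = p * (a ^ s') ^ q * p⁻¹ := by rw [← zpow_mul, mul_comm s']
        _ = p * (p⁻¹ * a * p⁻¹⁻¹) ^ q * p⁻¹ := by rw [hs']
        _ = (p * (p⁻¹ * a * p⁻¹⁻¹) * p⁻¹) ^ q := conj_zpow.symm
        _ = x * a * x⁻¹ := by rw [← hq]; group
    calc x⁻¹ * (p * x * p⁻¹) * a
        = x⁻¹ * ((p * x * p⁻¹) * a * (p * x * p⁻¹)⁻¹) * (p * x * p⁻¹) := by group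
      _ = x⁻¹ * (x * a * x⁻¹) * (p * x * p⁻¹) := by rw [h1]
      _ = a * (x⁻¹ * (p * x * p⁻¹)) := by group
  -- `|C| ≥ 4`
  obtain ⟨n, hn⟩ := IsPGroup.iff_orderOf.1 h.isS a'
  rw [← Subgroup.orderOf_coe, ← ha_def] at hn
  obtain ⟨m, rfl⟩ : ∃ m, n = m + 2 := ⟨n - 2, by
    by_contra hlt
    have ha2 : a * a = 1 := by
      rw [← pow_two]
      exact orderOf_dvd_iff_pow_eq_one.1 (hn ▸ (pow_dvd_pow 2 (show n ≤ 1 by omega)).trans (pow_one 2).dvd)
    have hea : e * a = a * e := by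
      rcases hCone a haC ha2 with e' | e' <;> rw [e']
      · simp
      · exact hzc e (h.SP heS)
    rcases hCone e (hcent e heS hea) he2 with e' | e'
    · exact he1 e'
    · exact hez e'⟩
  set w : G := a ^ 2 ^ m with hw_def
  have how : orderOf w = 4 := by
    rw [hw_def, orderOf_pow' _ (pow_ne_zero _ two_ne_zero), hn,
      Nat.gcd_eq_right (pow_dvd_pow 2 (Nat.le_add_right m 2)), pow_add,
      Nat.mul_div_cancel_left _ (pow_pos two_pos m)]
    norm_num
  have hwC : w ∈ C := pow_mem haC _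
  have hwS : w ∈ S := hCS hwC
  have hw2ne : w * w ≠ 1 := fun e => by
    have := orderOf_dvd_of_pow_eq_one (show w ^ 2 = 1 by rw [pow_two, e])
    rw [how] at this; norm_num at this
  have hw4 : (w * w) * (w * w) = 1 := by
    have := pow_orderOf_eq_one w
    rw [how] at this
    rw [show w * w * (w * w) = w ^ 4 by simp only [pow_succ, pow_zero, one_mul, mul_assoc]]; exact this
  have hww : w * w = z := (hCone _ (mul_mem hwC hwC) hw4).resolve_left hw2ne
  have hw : ∀ p ∈ P, (p * w * p⁻¹ = w ∧ ∀ s : ℤ, a ^ s = p * a * p⁻¹ → (4 : ℤ) ∣ s - 1) ∨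
      (p * w * p⁻¹ = w⁻¹ ∧ ∀ s : ℤ, a ^ s = p * a * p⁻¹ → (4 : ℤ) ∣ s + 1) := by
    intro p hp
    have hpw : ∀ s : ℤ, a ^ s = p * a * p⁻¹ → p * w * p⁻¹ = w ^ s := fun s hs => by
      rw [hw_def, ← conj_pow, ← hs, ← zpow_natCast, ← zpow_natCast, ← zpow_mul, ← zpow_mul, mul_comm]
    have hsq : ∀ s : ℤ, a ^ s = p * a * p⁻¹ → w ^ s * w ^ s ≠ 1 := fun s hs => by
      rw [← hpw s hs, show p * w * p⁻¹ * (p * w * p⁻¹) = p * (w * w) * p⁻¹ by group, hww, hzc p hp,
        mul_inv_cancel_right]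
      exact hz1
    have hdet : ∀ s : ℤ, a ^ s = p * a * p⁻¹ → ∀ u : ℤ, p * w * p⁻¹ = w ^ u → (4 : ℤ) ∣ s - u := by
      intro s hs u hu
      have : w ^ (s - u) = 1 := by rw [zpow_sub, ← hpw s hs, ← hu, mul_inv_cancel]
      have := orderOf_dvd_iff_zpow_eq_one.2 this
      rwa [how] at this
    obtain ⟨s₀, hs₀⟩ := hact p hp
    rcases FourRank.Setup.zpow_order_four how s₀ (hsq s₀ hs₀) with ⟨e1, -⟩ | e1
    · refine Or.inl ⟨(hpw s₀ hs₀).trans e1, fun s hs => hdet s hs 1 ?_⟩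
      rw [zpow_one]; exact (hpw s₀ hs₀).trans e1
    · refine Or.inr ⟨(hpw s₀ hs₀).trans e1, fun s hs => ?_⟩
      have := hdet s hs (-1) (by rw [zpow_neg_one]; exact (hpw s₀ hs₀).trans e1)
      rwa [sub_neg_eq_add] at this
  have hw2 : ∀ p q : G, p * w * p⁻¹ = w⁻¹ → q * w * q⁻¹ = w⁻¹ → (p * q) * w * (p * q)⁻¹ = w := by
    intro p q h1 h2
    rw [show p * q * w * (p * q)⁻¹ = p * (q * w * q⁻¹) * p⁻¹ by group, h2,
      show p * w⁻¹ * p⁻¹ = (p * w * p⁻¹)⁻¹ by group, h1, inv_inv]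
  have hwne : ¬ (w⁻¹ = w) := fun e => hw2ne (by nth_rw 1 [← e]; simp)
  have hodd : ∀ (g : G) (i : ℤ), g ∈ S → Odd i → g ^ i = 1 → g = 1 := by
    intro g i hg he h1
    obtain ⟨n, hn⟩ := h.isS ⟨g, hg⟩
    have h2 : g ^ ((2 ^ n : ℕ) : ℤ) = 1 := by rw [zpow_natCast]; exact congrArg Subtype.val hn
    have h4 := Int.dvd_coe_gcd (orderOf_dvd_iff_zpow_eq_one.2 h1) (orderOf_dvd_iff_zpow_eq_one.2 h2)
    have hg1 : Int.gcd i (((2 ^ n : ℕ)) : ℤ) = 1 := by
      rw [Int.gcd_eq_natAbs, Int.natAbs_natCast]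
      apply Nat.Coprime.pow_right
      exact Nat.coprime_two_right.2 (Int.natAbs_odd.2 he)
    rw [hg1] at h4
    exact orderOf_eq_one_iff.1 (Nat.dvd_one.1 (by exact_mod_cast h4))
  -- `p` fixing `w` and inverting `y ∈ C`: `y` is `1` or `z`
  have hinv : ∀ p ∈ P, p * w * p⁻¹ = w → ∀ y ∈ C, y * (p * y * p⁻¹) = 1 → y = 1 ∨ y = z := by
    intro p hp hpw y hy hy1
    rcases hw p hp with ⟨-, hs4⟩ | ⟨h', -⟩
    · obtain ⟨s, hs⟩ := hact p hp
      obtain ⟨t', ht'⟩ := hs4 s hs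
      obtain ⟨k, rfl⟩ := hCa y hy
      refine hCone _ hy ?_
      rw [hconjpow p s hs, ← zpow_add] at hy1
      refine hodd _ (2 * t' + 1) (mul_mem (hCS hy) (hCS hy)) ⟨t', rfl⟩ ?_
      rw [← zpow_add, ← zpow_mul, ← hy1]
      congr 1
      rw [show s = 4 * t' + 1 by omega]; ring
    · exact absurd (h'.symm.trans hpw) hwne
  -- no involution but `z` fixes `w`
  have hSfix : ∀ f ∈ S, f * f = 1 → f * w * f⁻¹ = w → f = 1 ∨ f = z := by
    intro f hf hf2 hfw
    refine hnoW f hf hf2 fun p hp => ?_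
    set y := f⁻¹ * (p * f * p⁻¹) with hy
    have hfi : f⁻¹ = f := inv_eq_of_mul_eq_one_right hf2
    have hfy : p * f * p⁻¹ = f * y := by rw [hy, mul_inv_cancel_left]
    have h2 : (f * y) * (f * y) = 1 := by
      rw [← hfy, show p * f * p⁻¹ * (p * f * p⁻¹) = p * (f * f) * p⁻¹ by group, hf2]; group
    have h1 : y * (f * y * f⁻¹) = 1 := by
      calc y * (f * y * f⁻¹) = f⁻¹ * ((f * y) * (f * y)) * f⁻¹ := by group
        _ = 1 := by rw [h2, mul_one, hfi, hf2]
    rcases hinv f (h.SP hf) hfw y (hcomm p hp f hf) h1 with e' | e'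
    · left; rw [hfy, e', mul_one]
    · right; rw [hfy, e']
  have hewinv : e * w * e⁻¹ = w⁻¹ := ((hw e (h.SP heS)).resolve_left fun hh =>
    (hSfix e heS he2 hh.1).elim he1 hez).1
  -- fusion of `e` into `z`
  let M : Subgroup G := S ⊓ centralizer {w}
  have hMmem : ∀ x, x ∈ M ↔ x ∈ S ∧ x * w * x⁻¹ = w := fun x => by
    rw [show M = S ⊓ centralizer {w} from rfl, mem_inf, mem_centralizer_singleton_iff,
      mul_inv_eq_iff_eq_mul]
  have heM : e ∉ M := fun hm => (hSfix e heS he2 ((hMmem e).1 hm).2).elim he1 hez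
  have hMi : M.relIndex S = 2 := relIndex_two_of_coset heS heM fun x hx => by
    rcases hw x (h.SP hx) with h1 | h1
    · exact Or.inl ((hMmem x).2 ⟨hx, h1.1⟩)
    · exact Or.inr ((hMmem _).2 ⟨mul_mem hx heS, hw2 _ _ h1.1 hewinv⟩)
  obtain ⟨g, hgA, hgM⟩ := h.exists_conj_of_index_two inf_le_left hMi heS he2 he1 heM
  have hgz : g * e * g⁻¹ = z :=
    (hSfix _ ((hMmem _).1 hgM).1 (by rw [show g * e * g⁻¹ * (g * e * g⁻¹) = g * (e * e) * g⁻¹ by group, he2]; group)
      ((hMmem _).1 hgM).2).resolve_left fun e' => he1 (conj_eq_one_iff.1 e')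
  have hsqP : ∀ q ∈ P, (q * q) * (q * q) = 1 → q * q = 1 ∨ q * q = z := by
    intro q hq hqq
    refine hSfix _ (h.sq_mem hq) hqq ?_
    rcases hw q hq with h1 | h1
    · rw [show q * q * w * (q * q)⁻¹ = q * (q * w * q⁻¹) * q⁻¹ by group, h1.1, h1.1]
    · exact hw2 q q h1.1 h1.1
  have hnoc : ∀ c ∈ P, c * c = z → c * e ≠ e * c := fun c hc hcz hce =>
    hez (h.eq_of_fusion h.maxP le_rfl hsqP hc hce hcz (mem_sup_left hgA) hgz)
  have hwe : w * e * w⁻¹ = e * z := by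
    have h1 : e⁻¹ * w * e = w⁻¹ := by
      calc e⁻¹ * w * e = e * w * e⁻¹ := by rw [inv_eq_of_mul_eq_one_right he2]
        _ = w⁻¹ := hewinv
    calc w * e * w⁻¹ = e * (e⁻¹ * w * e) * w⁻¹ := by group
      _ = e * (w * w)⁻¹ := by rw [h1]; group
      _ = e * z := by rw [hww, inv_eq_of_mul_eq_one_right hz2]
  -- an element of `P` fixing `w` whose square is central moves `e` to `e` or `ez`
  have hey : ∀ c ∈ P, c * w * c⁻¹ = w → c * c * e = e * (c * c) →
      c * e * c⁻¹ = e ∨ c * e * c⁻¹ = e * z := by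
    intro c hc hcw hcc
    set y := e⁻¹ * (c * e * c⁻¹) with hy
    have hey' : c * e * c⁻¹ = e * y := by rw [hy, mul_inv_cancel_left]
    have h1 : y * (c * y * c⁻¹) = 1 := by
      calc y * (c * y * c⁻¹) = e⁻¹ * ((e * y) * (c * y * c⁻¹)) := by group
        _ = e⁻¹ * ((c * e * c⁻¹) * (c * y * c⁻¹)) := by rw [hey']
        _ = e⁻¹ * (c * (c * e * c⁻¹) * c⁻¹) := by
          rw [show c * e * c⁻¹ * (c * y * c⁻¹) = c * (e * y) * c⁻¹ by group, ← hey']
        _ = e⁻¹ * (c * c * e) * (c * c)⁻¹ := by group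
        _ = 1 := by rw [hcc]; group
    rcases hinv c hc hcw y (hcomm c hc e heS) h1 with e' | e'
    · left; rw [hey', e', mul_one]
    · right; rw [hey', e']
  -- an involution of `P` fixing `w` centralizes `e`
  have hL : ∀ x ∈ P, x * x = 1 → x * w * x⁻¹ = w → x * e = e * x := by
    intro x hx hx2 hxw
    rcases hey x hx hxw (by rw [hx2, one_mul, mul_one]) with e' | e'
    · exact mul_inv_eq_iff_eq_mul.1 e'
    · have hxw' : x * w = w * x := mul_inv_eq_iff_eq_mul.1 hxw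
      refine absurd ?_ (hnoc (x * w) (mul_mem hx (h.SP hwS)) (by
        rw [show x * w * (x * w) = x * (w * x) * w by group, ← hxw',
          show x * (x * w) * w = x * x * (w * w) by group, hx2, one_mul, hww]))
      apply mul_inv_eq_iff_eq_mul.1
      calc x * w * e * (x * w)⁻¹ = (x * (w * e * w⁻¹) * x⁻¹) := by group
        _ = (x * e * x⁻¹) * (x * z * x⁻¹) := by rw [hwe]; group
        _ = e * (z * z) := by rw [e', hzc x hx, mul_inv_cancel_right, mul_assoc]
        _ = e := by rw [hz2, mul_one]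
  rcases hw t h.tP with ⟨htw, -⟩ | ⟨htw, -⟩
  · rcases h.fix_sq heS he2 (hL t h.tP h.tt htw) with e' | e'
    · exact he1 e'
    · exact hez e'
  -- `t` inverts `w`
  have htr : Commute t r := h.tr
  have hrw : r * w * r⁻¹ = w⁻¹ := by
    rcases hw r h.rP with ⟨h1, -⟩ | h1
    · exfalso
      have hrw' : r * w = w * r := mul_inv_eq_iff_eq_mul.1 h1
      have h2 : r * w * (r * w) = 1 := by
        rw [show r * w * (r * w) = r * (w * r) * w by group, ← hrw',
          show r * (r * w) * w = (r * r) * (w * w) by group, hww, ← hz_def, hz2]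
      have hrwS : r * w * w * (r * w)⁻¹ = w := by
        rw [show r * w * w * (r * w)⁻¹ = r * w * r⁻¹ by group]; exact h1
      have hwr : w = r ∨ w = r⁻¹ := by
        rcases hSfix _ (mul_mem h.rS hwS) h2 hrwS with e' | e'
        · exact Or.inr (eq_inv_of_mul_eq_one_right e')
        · exact Or.inl (mul_left_cancel e')
      have : t * w * t⁻¹ = w := by
        rcases hwr with e' | e' <;> rw [e']
        · exact mul_inv_eq_iff_eq_mul.2 htr.eq
        · exact mul_inv_eq_iff_eq_mul.2 htr.inv_right.eq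
      exact hwne (htw.symm.trans this)
    · exact h1.1
  set c := t * r⁻¹
  have hcP : c ∈ P := mul_mem h.tP (inv_mem h.rP)
  have hcz : c * c = z := by
    calc t * r⁻¹ * (t * r⁻¹) = t * (r⁻¹ * t) * r⁻¹ := by group
      _ = (t * t) * (r⁻¹ * r⁻¹) := by rw [← htr.inv_right.eq]; group
      _ = z⁻¹ := by rw [h.tt, hz_def]; group
      _ = z := inv_eq_of_mul_eq_one_right hz2
  have hr1 : r⁻¹ * w * r⁻¹⁻¹ = w⁻¹ := by
    calc r⁻¹ * w * r⁻¹⁻¹ = (r⁻¹ * (r * w * r⁻¹) * r)⁻¹ := by rw [hrw]; group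
      _ = w⁻¹ := by group
  have hcw : c * w * c⁻¹ = w := hw2 t r⁻¹ htw hr1
  have hce : c * e * c⁻¹ = e * z := (hey c hcP hcw (by rw [hcz]; exact (hzc e (h.SP heS)).symm)).resolve_left
    fun e' => hnoc c hcP hcz (mul_inv_eq_iff_eq_mul.1 e')
  -- `S = C ∪ eC`
  have hMC : ∀ x ∈ S, x * w * x⁻¹ = w → x ∈ C := by
    by_contra! hne
    obtain ⟨x₀, hx₀, hx₀w, hx₀C⟩ := hne
    obtain ⟨j, hj⟩ := h.isS ⟨x₀, hx₀⟩
    have hex : ∃ i, x₀ ^ 2 ^ i ∈ C := ⟨j, by rw [show x₀ ^ 2 ^ j = 1 from congrArg Subtype.val hj]; exact one_mem C⟩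
    obtain ⟨i, hi⟩ : ∃ i, Nat.find hex = i + 1 := ⟨Nat.find hex - 1, by
      have : Nat.find hex ≠ 0 := fun h0 => hx₀C (by
        have := Nat.find_spec hex; rwa [h0, pow_zero, pow_one] at this)
      omega⟩
    set x := x₀ ^ 2 ^ i
    have hxS : x ∈ S := pow_mem hx₀ _
    have hxC : x ∉ C := Nat.find_min hex (by omega)
    have hx2 : x * x ∈ C := by
      rw [← pow_two, ← pow_mul, ← pow_succ, ← hi]; exact Nat.find_spec hex
    have hxw : x * w * x⁻¹ = w := by
      apply mul_inv_eq_iff_eq_mul.2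
      exact ((show Commute x₀ w from mul_inv_eq_iff_eq_mul.1 hx₀w).pow_left _).eq
    obtain ⟨s, hs⟩ := hact x (h.SP hxS)
    obtain ⟨t', ht'⟩ : (4 : ℤ) ∣ s - 1 := by
      rcases hw x (h.SP hxS) with h1 | h1
      · exact h1.2 s hs
      · exact absurd (h1.1.symm.trans hxw) hwne
    obtain ⟨p, hp⟩ := hCa _ hx2
    have hfix : x * a ^ p * x⁻¹ = a ^ p := by rw [hp]; group
    rcases Int.even_or_odd p with ⟨q, hq⟩ | hpo
    · -- an involution fixing `w`
      obtain ⟨α, β, hαβ⟩ : IsCoprime (2 * t' + 1) (((2 ^ (m + 2) : ℕ)) : ℤ) := by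
        rw [Int.isCoprime_iff_gcd_eq_one, Int.gcd_eq_natAbs, Int.natAbs_natCast]
        apply Nat.Coprime.pow_right
        exact Nat.coprime_two_right.2 (Int.natAbs_odd.2 ⟨t', rfl⟩)
      have ha2 : a ^ ((2 ^ (m + 2) : ℕ) : ℤ) = 1 := by rw [zpow_natCast, ← hn, pow_orderOf_eq_one]
      set i' := -(q * α)
      have h1 : (a ^ i' * x) * (a ^ i' * x) = 1 := by
        calc (a ^ i' * x) * (a ^ i' * x) = a ^ i' * (x * a ^ i' * x⁻¹) * (x * x) := by group
          _ = a ^ (i' + s * i' + p) := by rw [hconjpow x s hs, ← hp, ← zpow_add, ← zpow_add]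
          _ = (a ^ ((2 ^ (m + 2) : ℕ) : ℤ)) ^ (2 * q * β) := by
              rw [← zpow_mul]; congr 1
              rw [show s = 4 * t' + 1 by omega, hq]
              linear_combination (-2 * q) * hαβ
          _ = 1 := by rw [ha2, one_zpow]
      have hmemC : a ^ i' * x ∈ C := by
        rcases hSfix _ (mul_mem (zpow_mem haS _) hxS) h1 (by
            rw [show a ^ i' * x * w * (a ^ i' * x)⁻¹ = a ^ i' * (x * w * x⁻¹) * (a ^ i')⁻¹ by group, hxw,
              hCc _ (zpow_mem haC _) w hwC, mul_inv_cancel_right]) with e' | e'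
        · rw [e']; exact one_mem C
        · rw [e', ← hww]; exact mul_mem hwC hwC
      exact hxC (by simpa using mul_mem (inv_mem (zpow_mem haC i')) hmemC)
    · refine hxC (hcent x hxS (mul_inv_eq_iff_eq_mul.1 ?_))
      rw [hconjpow x s hs] at hfix
      have h1 : a ^ (s - 1) = 1 := hodd _ p (zpow_mem haS _) hpo (by
        rw [← zpow_mul, show (s - 1) * p = s * p - p by ring, zpow_sub, hfix, mul_inv_cancel])
      rw [← hs, show s = (s - 1) + 1 by ring, zpow_add, h1, one_mul, zpow_one]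
  obtain ⟨p, hp⟩ : ∃ p : ℤ, a ^ p = e⁻¹ * r := by
    refine hCa _ (hMC _ (mul_mem (inv_mem heS) h.rS) (hw2 e⁻¹ r ?_ hrw))
    calc e⁻¹ * w * e⁻¹⁻¹ = e * w * e⁻¹ := by rw [inv_eq_of_mul_eq_one_right he2, inv_eq_of_mul_eq_one_right he2]
      _ = w⁻¹ := hewinv
  have hr_eq : r = e * a ^ p := by rw [hp, mul_inv_cancel_left]
  obtain ⟨σ, hσ⟩ := hact e (h.SP heS)
  have hea : ∀ i : ℤ, e * a ^ i * (e * a ^ i) = a ^ (σ * i + i) := fun i => by
    calc e * a ^ i * (e * a ^ i) = (e * a ^ i * e⁻¹) * (e * e) * a ^ i := by group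
      _ = a ^ (σ * i + i) := by rw [hconjpow e σ hσ, he2, mul_one, ← zpow_add]
  have hrsq : a ^ (σ * p + p) = z := by rw [← hea, ← hr_eq, hz_def]
  have hσ4 : (4 : ℤ) ∣ σ + 1 := by
    rcases hw e (h.SP heS) with h1 | h1
    · exact absurd (hewinv.symm.trans h1.1) hwne
    · exact h1.2 σ hσ
  have hσ2 : a ^ (σ * σ - 1) = 1 := by
    rw [zpow_sub, ← hconjpow e σ hσ, hσ, show e * (e * a * e⁻¹) * e⁻¹ = (e * e) * a * (e * e)⁻¹ by group,
      he2]
    group
  obtain ⟨d, hd⟩ := hσ4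
  have hσz : a ^ (σ + 1) = z := by
    have h1 : (a ^ (σ + 1) * a ^ (σ + 1)) ^ (2 * d - 1) = 1 := by
      rw [← zpow_add, ← zpow_mul, ← hσ2]; congr 1
      rw [show σ = 4 * d - 1 by omega]; ring
    have h2 := hodd _ _ (mul_mem (zpow_mem haS _) (zpow_mem haS _)) ⟨d - 1, by ring⟩ h1
    rcases hCone _ (zpow_mem haC _) h2 with e' | e'
    · rw [show σ * p + p = (σ + 1) * p by ring, zpow_mul, e', one_zpow] at hrsq
      exact absurd hrsq.symm hz1
    · exact e'
  have hzpow : ∀ k : ℤ, z ^ (2 * k) = 1 := fun k => by rw [zpow_mul, zpow_two, hz2, one_zpow]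
  have hpo : Odd p := by
    by_contra hpe
    obtain ⟨k, hk⟩ := Int.not_odd_iff_even.1 hpe
    rw [show σ * p + p = (σ + 1) * p by ring, zpow_mul, hσz, hk, ← two_mul, hzpow] at hrsq
    exact hz1 hrsq.symm
  have hea2 : ∀ i : ℤ, e * a ^ i * (e * a ^ i) = z ^ i := fun i => by
    rw [hea, show σ * i + i = (σ + 1) * i by ring, zpow_mul, hσz]
  have heC : e ∉ C := fun hc => by
    rcases hCone e hc he2 with e' | e'
    · exact he1 e'
    · exact hez e'
  have hSdec : ∀ u ∈ S, ∃ i : ℤ, u = a ^ i ∨ u = e * a ^ i := by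
    intro u hu
    rcases hw u (h.SP hu) with h1 | h1
    · obtain ⟨i, hi⟩ := hCa u (hMC u hu h1.1)
      exact ⟨i, Or.inl hi.symm⟩
    · obtain ⟨i, hi⟩ := hCa (e * u) (hMC _ (mul_mem heS hu) (hw2 e u hewinv h1.1))
      exact ⟨i, Or.inr (by rw [hi, ← mul_assoc, he2, one_mul])⟩
  -- the subgroup `⟨a², e⟩`
  let N : Subgroup G :=
    { carrier := {u | ∃ i : ℤ, Even i ∧ (u = a ^ i ∨ u = e * a ^ i)}
      one_mem' := ⟨0, by decide, Or.inl (zpow_zero a).symm⟩
      mul_mem' := by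
        rintro u v ⟨i, hi, rfl | rfl⟩ ⟨k, hk, rfl | rfl⟩
        · exact ⟨i + k, hi.add hk, Or.inl (zpow_add a i k).symm⟩
        · refine ⟨σ * i + k, (hi.mul_left σ).add hk, Or.inr ?_⟩
          rw [zpow_add, ← hconjpow e σ hσ, show e * (e * a ^ i * e⁻¹ * a ^ k) = (e * e) * a ^ i * (e⁻¹ * a ^ k) by group,
            he2, one_mul, inv_eq_of_mul_eq_one_right he2]
        · exact ⟨i + k, hi.add hk, Or.inr (by rw [mul_assoc, ← zpow_add])⟩
        · refine ⟨σ * i + k, (hi.mul_left σ).add hk, Or.inl ?_⟩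
          rw [zpow_add, ← hconjpow e σ hσ, inv_eq_of_mul_eq_one_right he2]
          group
      inv_mem' := by
        rintro u ⟨i, hi, rfl | rfl⟩
        · exact ⟨-i, hi.neg, Or.inl (zpow_neg a i).symm⟩
        · refine ⟨σ * (-i), hi.neg.mul_left σ, Or.inr ?_⟩
          rw [← hconjpow e σ hσ, mul_inv_rev, inv_eq_of_mul_eq_one_right he2, zpow_neg,
            show e * (e * (a ^ i)⁻¹ * e) = (e * e) * (a ^ i)⁻¹ * e by group, he2, one_mul] }
  have hNS : N ≤ S := by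
    rintro u ⟨i, -, rfl | rfl⟩
    · exact zpow_mem haS i
    · exact mul_mem heS (zpow_mem haS i)
  have haev : ∀ k : ℤ, a ^ k = 1 → Even k := fun k hk => by
    have := orderOf_dvd_iff_zpow_eq_one.2 hk
    rw [hn] at this
    exact even_iff_two_dvd.2 (dvd_trans (by push_cast; exact dvd_pow_self _ (by omega)) this)
  have heap : ∀ i k : ℤ, e * a ^ i ≠ a ^ k := fun i k hh => heC (by
    rw [show e = a ^ k * (a ^ i)⁻¹ by rw [← hh]; group]
    exact mul_mem (zpow_mem haC k) (inv_mem (zpow_mem haC i)))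
  have haN : ∀ k : ℤ, a ^ k ∈ N → Even k := by
    rintro k ⟨i, hi, h1 | h1⟩
    · have := haev (k - i) (by rw [zpow_sub, h1, mul_inv_cancel])
      simpa using this.add hi
    · exact absurd h1.symm (heap i k)
  have heaN : ∀ k : ℤ, e * a ^ k ∈ N → Even k := by
    rintro k ⟨i, hi, h1 | h1⟩
    · exact absurd h1 (heap k i)
    · have := haev (k - i) (by rw [zpow_sub, mul_left_cancel h1, mul_inv_cancel])
      simpa using this.add hi
  have hrN : r ∉ N := fun hm => Int.not_even_iff_odd.2 hpo (heaN p (hr_eq ▸ hm))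
  have hNi : N.relIndex S = 2 := relIndex_two_of_coset h.rS hrN fun x hx => by
    obtain ⟨i, rfl | rfl⟩ := hSdec x hx
    all_goals rcases Int.even_or_odd i with hi | hi
    · exact Or.inl ⟨i, hi, Or.inl rfl⟩
    · refine Or.inr ⟨σ * i + p, ?_, Or.inr ?_⟩
      · exact (Int.odd_mul.2 ⟨⟨2 * d - 1, by omega⟩, hi⟩).add_odd hpo
      · rw [hr_eq, zpow_add, ← hconjpow e σ hσ, inv_eq_of_mul_eq_one_right he2,
          show e * (e * a ^ i * e * a ^ p) = (e * e) * a ^ i * (e * a ^ p) by group, he2, one_mul]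
    · exact Or.inl ⟨i, hi, Or.inr rfl⟩
    · refine Or.inr ⟨σ * i + p, (Int.odd_mul.2 ⟨⟨2 * d - 1, by omega⟩, hi⟩).add_odd hpo, Or.inl ?_⟩
      rw [hr_eq, zpow_add, ← hconjpow e σ hσ, inv_eq_of_mul_eq_one_right he2]
      group
  have hr4' : z * z = 1 := hz2
  have hinvN : ∀ u ∈ S, u * u = 1 → u ∈ N := by
    intro u hu hu2
    obtain ⟨i, rfl | rfl⟩ := hSdec u hu
    · rw [← zpow_add] at hu2
      refine ⟨i, ?_, Or.inl rfl⟩
      obtain ⟨k, hk⟩ : (4 : ℤ) ∣ i + i := by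
        have := orderOf_dvd_iff_zpow_eq_one.2 hu2
        rw [hn, pow_add] at this
        exact dvd_trans ⟨2 ^ m, by push_cast; ring⟩ this
      exact ⟨k, by omega⟩
    · rw [hea2] at hu2
      refine ⟨i, ?_, Or.inr rfl⟩
      by_contra hie
      obtain ⟨k, hk⟩ := Int.not_even_iff_odd.1 hie
      rw [hk, zpow_add, hzpow, one_mul, zpow_one] at hu2
      exact hz1 hu2
  -- transfer: `r` is conjugate to `w^±1`
  obtain ⟨g', hg', hwgr⟩ : ∃ g' ∈ A, g' * r * g'⁻¹ = w ∨ g' * r * g'⁻¹ = w⁻¹ := by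
    by_contra! hno
    have hsq : ∀ k : ℕ, Even k → r ^ k * r ^ k = 1 := by
      rintro k ⟨l, rfl⟩
      rw [← pow_add, ← orderOf_dvd_iff_pow_eq_one, h.r4]
      exact ⟨l, by ring⟩
    refine h.contra_hom hNS hNi h.rS hrN (fun k hk g hg hgS => hinvN _ hgS ?_) (fun k hk g hg hgS hm => ?_)
    · rw [show g * r ^ k * g⁻¹ * (g * r ^ k * g⁻¹) = g * (r ^ k * r ^ k) * g⁻¹ by group, hsq k hk]; group
    · obtain ⟨l, hl⟩ := hk
      set u := g * r ^ k * g⁻¹ with hu
      have hu2 : u * u = g * z * g⁻¹ := by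
        rw [hu, show g * r ^ k * g⁻¹ * (g * r ^ k * g⁻¹) = g * (r ^ k * r ^ k) * g⁻¹ by group, hl]
        congr 2
        rw [hz_def, ← pow_two r, ← pow_add, pow_eq_pow_iff_modEq, h.r4]
        exact Nat.modEq_iff_dvd.2 ⟨-(l : ℤ), by push_cast; ring⟩
      obtain ⟨i, hi, e' | e'⟩ := hm
      · -- `u` is `w` or `w⁻¹`
        have h4 : u * u = z := by
          refine (hCone (u * u) (by rw [e', ← zpow_add]; exact zpow_mem haC _) ?_).resolve_left fun h1 =>
            hz1 (conj_eq_one_iff.1 (hu2.symm.trans h1))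
          rw [hu2, show g * z * g⁻¹ * (g * z * g⁻¹) = g * (z * z) * g⁻¹ by group, hz2]; group
        have hcw' : u * w⁻¹ * (u * w⁻¹) = 1 := by
          rw [show u * w⁻¹ * (u * w⁻¹) = u * (w⁻¹ * u) * w⁻¹ by group,
            hCc w⁻¹ (inv_mem hwC) u (e' ▸ zpow_mem haC i), show u * (u * w⁻¹) * w⁻¹ = (u * u) * (w * w)⁻¹ by group,
            h4, hww, mul_inv_cancel]
        have huw : u = w ∨ u = w⁻¹ := by
          rcases hCone _ (mul_mem (e' ▸ zpow_mem haC i) (inv_mem hwC)) hcw' with e'' | e''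
          · exact Or.inl (mul_inv_eq_one.1 e'')
          · refine Or.inr ?_
            calc u = u * w⁻¹ * w := by group
              _ = z * (w * w) * w⁻¹ := by rw [e'']; group
              _ = w⁻¹ := by rw [hww, hz2, one_mul]
        have hrk : r ^ k = r ∨ r ^ k = r⁻¹ := by
          rcases Nat.even_or_odd l with ⟨q, hq⟩ | ⟨q, hq⟩
          · left
            nth_rw 2 [← pow_one r]
            rw [pow_eq_pow_iff_modEq, h.r4, hl, hq]
            exact Nat.modEq_iff_dvd.2 ⟨-(q : ℤ), by push_cast; ring⟩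
          · right
            apply eq_inv_of_mul_eq_one_left
            rw [← pow_succ, ← orderOf_dvd_iff_pow_eq_one, h.r4, hl, hq]
            exact ⟨q + 1, by ring⟩
        obtain ⟨hn1, hn2⟩ := hno g hg
        rcases hrk with e1 | e1
        · rw [hu, e1] at huw
          exact huw.elim hn1 hn2
        · rw [hu, e1, show g * r⁻¹ * g⁻¹ = (g * r * g⁻¹)⁻¹ by group, inv_eq_iff_eq_inv, inv_eq_iff_eq_inv,
            inv_inv] at huw
          exact huw.elim hn2 hn1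
      · rw [e', hea2] at hu2
        obtain ⟨q, hq⟩ := hi
        rw [hq, ← two_mul, hzpow] at hu2
        exact hz1 (conj_eq_one_iff.1 hu2.symm)
  -- then `t` is conjugate to an involution fixing `w`
  have hwr' : (g' * t * g'⁻¹) * w = w * (g' * t * g'⁻¹) := by
    rcases hwgr with e' | e'
    · rw [← e']
      calc g' * t * g'⁻¹ * (g' * r * g'⁻¹) = g' * (t * r) * g'⁻¹ := by group
        _ = g' * r * g'⁻¹ * (g' * t * g'⁻¹) := by rw [h.tr]; group
    · rw [inv_eq_iff_eq_inv.1 e'.symm]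
      calc g' * t * g'⁻¹ * (g' * r * g'⁻¹)⁻¹ = g' * (t * r⁻¹) * g'⁻¹ := by group
        _ = (g' * r * g'⁻¹)⁻¹ * (g' * t * g'⁻¹) := by rw [htr.inv_right.eq]; group
  let K : Subgroup G := (A ⊔ zpowers t) ⊓ centralizer {w}
  let Q : Subgroup G := P ⊓ centralizer {w}
  have hQmem : ∀ x, x ∈ Q ↔ x ∈ P ∧ x * w = w * x := fun x => by
    rw [show Q = P ⊓ centralizer {w} from rfl, mem_inf, mem_centralizer_singleton_iff]
  have hQi : Q.relIndex P = 2 := by
    have hrQ : r ∉ Q := fun hq => hwne (hrw.symm.trans (mul_inv_eq_iff_eq_mul.2 ((hQmem r).1 hq).2))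
    refine relIndex_two_of_coset h.rP hrQ fun x hx => ?_
    rcases hw x hx with h1 | h1
    · exact Or.inl ((hQmem x).2 ⟨hx, mul_inv_eq_iff_eq_mul.1 h1.1⟩)
    · exact Or.inr ((hQmem _).2 ⟨mul_mem hx h.rP, mul_inv_eq_iff_eq_mul.1 (hw2 _ _ h1.1 hrw)⟩)
  have hQmax : IsMaxP 2 Q K := by
    refine ⟨fun x hx => mem_inf.2 ⟨h.maxP.1 (mem_inf.1 hx).1, (mem_inf.1 hx).2⟩,
      h.isP.to_le inf_le_left, fun R hR hRp hle => ?_⟩
    by_contra hne
    have hlt : Nat.card Q < Nat.card R := by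
      refine lt_of_le_of_ne (Subgroup.card_le_of_le hle) fun heq => hne ?_
      exact (Subgroup.eq_of_le_of_card_ge hle heq.ge).symm
    obtain ⟨b, hbH, hb⟩ := exists_conj_le_max h.maxP (hR.trans inf_le_left) hRp
    have hcardP : Nat.card P = 2 * Nat.card Q := by
      have := (Q.subgroupOf P).card_mul_index
      rw [Nat.card_congr (subgroupOfEquivOfLe (show Q ≤ P from inf_le_left)).toEquiv,
        show (Q.subgroupOf P).index = 2 from hQi] at this
      omega
    have hRP : R = conjOf P b := by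
      refine Subgroup.eq_of_le_of_card_ge hb ?_
      rw [card_conjOf]
      obtain ⟨n1, hn1⟩ := IsPGroup.iff_card.1 hRp
      obtain ⟨n2, hn2⟩ := IsPGroup.iff_card.1 (h.isP.to_le (inf_le_left : Q ≤ P))
      rw [hcardP, hn1, hn2, ← pow_succ']
      rw [hn1, hn2] at hlt
      exact Nat.pow_le_pow_right two_pos ((Nat.pow_lt_pow_iff_right Nat.one_lt_two).1 hlt)
    set v := b⁻¹ * w * b with hv
    have hbH' : b ∈ A ⊔ zpowers t := hbH
    have hvA : v ∈ A := by
      have := h.conjA (inv_mem hbH') (h.SA hwS)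
      rwa [inv_inv] at this
    have hvP : v ∈ P := mem_conjOf.1 (hRP ▸ hle ((hQmem w).2 ⟨h.SP hwS, rfl⟩))
    -- `v` would be a central element of order four
    have hvc : ∀ u ∈ P, u * v = v * u := by
      intro u hu
      have h1 : b * u * b⁻¹ ∈ R := by
        rw [hRP]; exact mem_conjOf.2 (by simpa [mul_assoc] using hu)
      have h2 := mem_centralizer_singleton_iff.1 (mem_inf.1 (hR h1)).2
      calc u * v = b⁻¹ * ((b * u * b⁻¹) * w) * b := by rw [hv]; group
        _ = b⁻¹ * (w * (b * u * b⁻¹)) * b := by rw [h2]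
        _ = v * u := by rw [hv]; group
    obtain ⟨q, hq⟩ := mem_zpowers_iff.1 (h.fix v (h.mem_S hvP hvA) (hvc t h.tP))
    have hvz : v * v = b⁻¹ * z * b := by rw [← hww, hv]; group
    rcases Int.even_or_odd q with ⟨l, hl⟩ | ⟨l, hl⟩
    · have h1 : v * v = 1 := by
        rw [← hq, hl, ← two_mul, zpow_mul, zpow_two, ← (Commute.refl (r * r)).mul_zpow, ← hz_def, hz2,
          one_zpow]
      rw [hvz] at h1
      exact hz1 (by rw [show z = b * (b⁻¹ * z * b) * b⁻¹ by group, h1]; group)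
    · have hwr : w * r = r * w := by
        have hzw : Commute w z := hzc w (h.SP hwS)
        have h1 : Commute w (r ^ q) := by rw [hq]; exact hvc w (h.SP hwS)
        have h2 : r = r ^ q * z ^ (-l) := by
          rw [hz_def, ← zpow_two, ← zpow_mul, ← zpow_add, hl, show 2 * l + 1 + 2 * -l = 1 by ring, zpow_one]
        rw [h2]
        exact (h1.mul_right (hzw.zpow_right (-l))).eq
      exact hwne (hrw.symm.trans (mul_inv_eq_iff_eq_mul.2 hwr.symm))
  have hxK : g' * t * g'⁻¹ ∈ K := mem_inf.2 ⟨mul_mem (mul_mem (mem_sup_left hg') (mem_sup_right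
    (mem_zpowers t))) (inv_mem (mem_sup_left hg')), mem_centralizer_singleton_iff.2 hwr'⟩
  have hx2 : g' * t * g'⁻¹ * (g' * t * g'⁻¹) = 1 := by
    rw [show g' * t * g'⁻¹ * (g' * t * g'⁻¹) = g' * (t * t) * g'⁻¹ by group, h.tt]; group
  obtain ⟨b, hbK, hb⟩ := exists_conj_le_max hQmax (zpowers_le.2 hxK)
    (isPGroup_zpowers (k := 1) (by rw [pow_one, pow_two, hx2]))
  obtain ⟨hbxP, hbxw⟩ := (hQmem _).1 (mem_conjOf.1 (hb (mem_zpowers _)))
  set x := b⁻¹ * (g' * t * g'⁻¹) * b with hx_def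
  have hxx : x * x = 1 := by
    rw [hx_def, show b⁻¹ * (g' * t * g'⁻¹) * b * (b⁻¹ * (g' * t * g'⁻¹) * b) =
      b⁻¹ * (g' * t * g'⁻¹ * (g' * t * g'⁻¹)) * b by group, hx2]; group
  have hxe := hL x hbxP hxx (mul_inv_eq_iff_eq_mul.2 hbxw)
  set k := g'⁻¹ * b
  have hkH : k ∈ A ⊔ zpowers t := mul_mem (inv_mem (mem_sup_left hg')) (mem_inf.1 hbK).1
  have htk : ∀ u : G, x * u = u * x → t * (k * u * k⁻¹) = (k * u * k⁻¹) * t := by
    intro u hu
    have : t = k * x * k⁻¹ := by simp only [k, hx_def]; group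
    rw [this]
    calc k * x * k⁻¹ * (k * u * k⁻¹) = k * (x * u) * k⁻¹ := by group
      _ = k * u * k⁻¹ * (k * x * k⁻¹) := by rw [hu]; group
  have := h.one _ (h.conjA hkH (h.SA heS)) _ (h.conjA hkH (h.SA h.z_mem))
    (by rw [show k * e * k⁻¹ * (k * e * k⁻¹) = k * (e * e) * k⁻¹ by group, he2]; group)
    (by rw [show k * z * k⁻¹ * (k * z * k⁻¹) = k * (z * z) * k⁻¹ by group, hz2]; group)
    (fun hh => he1 (conj_eq_one_iff.1 hh)) (fun hh => hz1 (conj_eq_one_iff.1 hh))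
    (by rw [show k * e * k⁻¹ * (k * z * k⁻¹) = k * (e * z) * k⁻¹ by group, hzc e (h.SP heS)]; simp only [hz_def]; group)
    (htk e hxe) (htk z (hzc x hbxP))
  exact hez (mul_left_cancel (mul_right_cancel this))

end Setup

end Cfsg.Agent.Components.CyclicFour
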