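/-
The case `r ∈ C`: coordinates on `C`, the action of `S` and the elimination of all possibilities.
Main results: `Setup.false_of_rank_two`.
-/
import Cfsg.Agent.Lib.Components.CyclicFour.RankTwo

set_option autoImplicit false
set_option linter.style.haveILetI false
set_option linter.unusedSectionVars false

namespace Cfsg.Agent.Components.CyclicFour

open Subgroup
open scoped commutatorElement

variable {G : Type*} [Group G] [Finite G] {A S P C : Subgroup G} {t r f a : G}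

/-- A normal subgroup properly inside `S` has an element of `S` central modulo it. -/
theorem Setup.exists_step (h : Setup A S P t r) (hCS : C ≤ S)
    (hCP : ∀ p ∈ P, ∀ x ∈ C, p * x * p⁻¹ ∈ C) (hne : ¬ S ≤ C) :
    ∃ x ∈ S, x ∉ C ∧ ∀ p ∈ P, x⁻¹ * (p * x * p⁻¹) ∈ C := by
  haveI : Fact (Nat.Prime 2) := ⟨Nat.prime_two⟩
  haveI hn1 : (C.subgroupOf P).Normal := ⟨fun n hn p => mem_subgroupOf.2 (hCP p p.2 n hn)⟩
  haveI : (S.subgroupOf P).Normal := ⟨fun n hn p => mem_subgroupOf.2 (h.conjS p.2 hn)⟩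
  obtain ⟨x₀, hx₀, hx₀C⟩ := SetLike.not_le_iff_exists.1 hne
  have hlt : C.subgroupOf P < S.subgroupOf P := lt_of_le_not_ge (fun x hx => hCS hx)
    fun hle => hx₀C (hle (show (⟨x₀, h.SP hx₀⟩ : ↥P) ∈ S.subgroupOf P from hx₀))
  obtain ⟨K, -, hCK, hKS, hK, hcomm⟩ := PGroup.exists_normal_between h.isP hlt
  obtain ⟨x, hxK, hxC⟩ : ∃ x ∈ K, x ∉ C.subgroupOf P := by
    by_contra! hc
    rw [le_antisymm hCK hc] at hK
    have := Nat.card_pos (α := K)
    omega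
  refine ⟨x, hKS hxK, hxC, fun p hp => ?_⟩
  have hm := hcomm (commutator_mem_commutator hxK (mem_top (⟨p, hp⟩ : ↥P)))
  have h2 : (x : G)⁻¹ * ((x : G) * p * (x : G)⁻¹ * p⁻¹)⁻¹ * x ∈ C := by
    simpa using hCP (x : G)⁻¹ (inv_mem x.2) _ (inv_mem (show (x : G) * p * (x : G)⁻¹ * p⁻¹ ∈ C from hm))
  rwa [show (x : G)⁻¹ * (p * x * p⁻¹) = (x : G)⁻¹ * ((x : G) * p * (x : G)⁻¹ * p⁻¹)⁻¹ * x by group]

/-- Coordinates: `C = ⟨a⟩ × ⟨f⟩`, `t` inverts `a` and maps `f` to `fz`, `r ∈ C`. -/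
structure Frame (A S P C : Subgroup G) (t r f a : G) : Prop where
  setup : Setup A S P t r
  CS : C ≤ S
  CP : ∀ p ∈ P, ∀ x ∈ C, p * x * p⁻¹ ∈ C
  Cc : ∀ x ∈ C, ∀ y ∈ C, x * y = y * x
  CC : ∀ x ∈ S, (∀ y ∈ C, x * y = y * x) → x ∈ C
  fC : f ∈ C
  f2 : f * f = 1
  f1 : f ≠ 1
  fz : f ≠ r * r
  rC : r ∈ C
  aC : a ∈ C
  ta : t * a * t = a⁻¹
  decC : ∀ c ∈ C, c ∈ zpowers a ∨ c * f ∈ zpowers a

namespace Frame

variable (F : Frame A S P C t r f a)
include F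

local notation "z₀" => r * r

theorem tf : t * f * t = f * z₀ :=
  Setup.tf F.setup F.CS F.CP F.Cc F.CC F.fC F.f2 F.f1 F.fz

theorem zC : z₀ ∈ C := mul_mem F.rC F.rC
theorem aS : a ∈ S := F.CS F.aC
theorem fS : f ∈ S := F.CS F.fC
theorem rS : r ∈ S := F.CS F.rC

theorem tapow (i : ℤ) : t * a ^ i * t = a ^ (-i) := by
  have h1 : (t * a * t) ^ i = t * a ^ i * t := by
    have := conj_zpow (i := i) (a := t) (b := a)
    rw [F.setup.inv_t] at this
    exact this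
  rw [← h1, F.ta, inv_zpow']

theorem f_not : f ∉ zpowers a := fun hm => by
  obtain ⟨i, hi⟩ := mem_zpowers_iff.1 hm
  have := F.tapow i
  rw [hi, F.tf, zpow_neg, hi, inv_eq_of_mul_eq_one_right F.f2] at this
  exact F.setup.z_ne (mul_left_cancel (a := f) (by rw [this, mul_one]))

theorem exists_rep {c : G} (hc : c ∈ C) : ∃ i : ℤ, c = a ^ i ∨ c = a ^ i * f := by
  rcases F.decC c hc with h | h <;> obtain ⟨i, hi⟩ := mem_zpowers_iff.1 h
  · exact ⟨i, Or.inl hi.symm⟩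
  · exact ⟨i, Or.inr (by rw [hi, mul_assoc, F.f2, mul_one])⟩

theorem af (i : ℤ) : a ^ i * f = f * a ^ i := F.Cc _ (zpow_mem F.aC i) _ F.fC

theorem invol_powers {i : ℤ} (h2 : a ^ i * a ^ i = 1) : a ^ i = 1 ∨ a ^ i = z₀ := by
  refine F.setup.fix_sq (zpow_mem F.aS i) h2 ?_
  calc t * a ^ i = t * a ^ i * (t * t) := by rw [F.setup.tt, mul_one]
    _ = (t * a ^ i * t) * t := by group
    _ = a ^ i * t := by rw [F.tapow, zpow_neg, inv_eq_of_mul_eq_one_right h2]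

theorem sq_C {c : G} (hc : c ∈ C) : ∃ i : ℤ, c * c = a ^ (i + i) := by
  obtain ⟨i, hi⟩ := F.exists_rep hc
  refine ⟨i, ?_⟩
  rcases hi with rfl | rfl
  · rw [zpow_add]
  · rw [show a ^ i * f * (a ^ i * f) = a ^ i * (f * a ^ i) * f by group, ← F.af,
      show a ^ i * (a ^ i * f) * f = a ^ (i + i) * (f * f) by group, F.f2, mul_one]

theorem order_a : ∃ m : ℕ, orderOf a = 2 ^ (m + 2) ∧ a ^ (2 ^ (m + 1) : ℕ) = z₀ := by
  obtain ⟨i, hi⟩ := F.sq_C F.rC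
  obtain ⟨n, hn⟩ := IsPGroup.iff_orderOf.1 F.setup.isS ⟨a, F.aS⟩
  rw [← Subgroup.orderOf_coe] at hn
  simp only at hn
  have h2 : 2 ≤ n := by
    by_contra hlt
    have : a ^ (2 : ℤ) = 1 := by
      rw [← orderOf_dvd_iff_zpow_eq_one, hn]
      exact_mod_cast (pow_dvd_pow 2 (show n ≤ 1 by omega)).trans (pow_one 2).dvd
    rw [← two_mul, zpow_mul, this, one_zpow] at hi
    exact F.setup.z_ne hi
  obtain ⟨m, rfl⟩ : ∃ m, n = m + 2 := ⟨n - 2, by omega⟩
  refine ⟨m, hn, ?_⟩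
  rw [← zpow_natCast]
  refine (F.invol_powers ?_).resolve_left fun e => ?_
  · rw [← zpow_add, ← orderOf_dvd_iff_zpow_eq_one, hn]
    push_cast
    exact ⟨1, by ring⟩
  · rw [← orderOf_dvd_iff_zpow_eq_one, hn] at e
    have : (2 ^ (m + 2) : ℕ) ∣ 2 ^ (m + 1) := Int.natCast_dvd_natCast.1 e
    rw [Nat.pow_dvd_pow_iff_le_right Nat.one_lt_two] at this
    omega

theorem cent {x : G} (hx : x ∈ S) (hxa : x * a = a * x) (hxf : x * f = f * x) : x ∈ C := by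
  refine F.CC x hx fun c hc => ?_
  obtain ⟨i, rfl | rfl⟩ := F.exists_rep hc
  · exact (show Commute x a from hxa).zpow_right i
  · exact ((show Commute x a from hxa).zpow_right i).mul_right hxf

theorem key {x : G} (hx : x ∈ S) {l : ℤ} (he : t * x * t = x * a ^ (l + l)) : x ∈ C := by
  have hfix : t * (x * a ^ l) = x * a ^ l * t := by
    calc t * (x * a ^ l) = (t * x * t) * (t * a ^ l * t) * t := by
          rw [show t * x * t * (t * a ^ l * t) * t = t * x * (t * t) * a ^ l * (t * t) by group,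
            F.setup.tt]; group
      _ = x * a ^ (l + l) * a ^ (-l) * t := by rw [he, F.tapow]
      _ = x * a ^ l * t := by group
  have hm : x * a ^ l ∈ C := zpowers_le.2 F.rC (F.setup.fix _ (mul_mem hx (zpow_mem F.aS l)) hfix)
  simpa using mul_mem hm (inv_mem (zpow_mem F.aC l))

theorem conj_f {p : G} (hp : p ∈ P) : p * f * p⁻¹ = f ∨ p * f * p⁻¹ = f * z₀ :=
  Setup.conj_f F.setup F.CS F.CP F.Cc F.CC F.fC F.f2 F.f1 F.fz hp

theorem t_conj_f {p : G} (hp : p ∈ P) : t * (p * f * p⁻¹) * t = p * f * p⁻¹ * z₀ := by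
  rcases F.conj_f hp with e | e <;> rw [e]
  · exact F.tf
  · calc t * (f * z₀) * t = t * f * (t * t) * z₀ * t := by rw [F.setup.tt]; group
      _ = (t * f * t) * (t * z₀) * t := by group
      _ = f * z₀ * z₀ * (t * t) := by rw [F.tf, F.setup.z_comm F.setup.tP]; group
      _ = f * z₀ * z₀ := by rw [F.setup.tt, mul_one]

theorem txt_inv {x : G} : t * (x⁻¹ * (t * x * t)) * t = (x⁻¹ * (t * x * t))⁻¹ := by
  calc t * (x⁻¹ * (t * x * t)) * t = t * x⁻¹ * t * x * (t * t) := by group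
    _ = t * x⁻¹ * t * x := by rw [F.setup.tt, mul_one]
    _ = t⁻¹ * x⁻¹ * t⁻¹ * x := by rw [F.setup.inv_t]
    _ = (x⁻¹ * (t * x * t))⁻¹ := by group

theorem txt_f {x : G} (hx : x ∈ S) : (t * x * t) * f * (t * x * t)⁻¹ = x * f * x⁻¹ := by
  have hxP := F.setup.SP hx
  calc t * x * t * f * (t * x * t)⁻¹ = t * x * (t * f * t⁻¹) * x⁻¹ * t⁻¹ := by group
    _ = t * x * (f * z₀) * x⁻¹ * t := by rw [F.setup.inv_t, F.tf]
    _ = t * ((x * f * x⁻¹) * (x * z₀ * x⁻¹)) * t := by group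
    _ = (t * (x * f * x⁻¹) * t) * z₀ := by
        rw [F.setup.z_comm hxP, mul_inv_cancel_right, ← mul_assoc, mul_assoc _ z₀ t,
          ← F.setup.z_comm F.setup.tP]
        group
    _ = x * f * x⁻¹ * (z₀ * z₀) := by rw [F.t_conj_f hxP]; group
    _ = x * f * x⁻¹ := by rw [F.setup.z_mul, mul_one]

theorem act {x : G} (hx : x ∈ S) : ∃ s : ℤ, x * a * x⁻¹ = a ^ s := by
  have hxP := F.setup.SP hx
  obtain ⟨s, hs | hs⟩ := F.exists_rep (F.CP x hxP a F.aC)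
  · exact ⟨s, hs⟩
  exfalso
  set y := x⁻¹ * (t * x * t) with hy
  have hyS : y ∈ S := mul_mem (inv_mem hx) (F.setup.tconj hx)
  have hyP := F.setup.SP hyS
  have hty : t * y * t = y⁻¹ := F.txt_inv
  have h1 : (t * x * t) * a * (t * x * t)⁻¹ = x * a * x⁻¹ * z₀ := by
    calc t * x * t * a * (t * x * t)⁻¹ = t * x * (t * a * t⁻¹) * x⁻¹ * t⁻¹ := by group
      _ = t * x * a⁻¹ * x⁻¹ * t := by rw [F.setup.inv_t, F.ta]
      _ = t * (x * a * x⁻¹)⁻¹ * t := by group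
      _ = t * (f * a ^ (-s)) * t := by rw [hs, mul_inv_rev, ← zpow_neg, inv_eq_of_mul_eq_one_right F.f2]
      _ = t * f * (t * t) * a ^ (-s) * t := by rw [F.setup.tt]; group
      _ = (t * f * t) * (t * a ^ (-s) * t) := by group
      _ = f * (z₀ * a ^ s) := by rw [F.tf, F.tapow, neg_neg, mul_assoc]
      _ = f * a ^ s * z₀ := by rw [← F.setup.z_comm (F.setup.SP (zpow_mem F.aS s)), mul_assoc]
      _ = x * a * x⁻¹ * z₀ := by rw [hs, F.af]
  have hya : y * a * y⁻¹ = a * z₀ := by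
    calc y * a * y⁻¹ = x⁻¹ * ((t * x * t) * a * (t * x * t)⁻¹) * x := by rw [hy]; group
      _ = x⁻¹ * (x * a * x⁻¹) * (z₀ * x) := by rw [h1]; group
      _ = a * z₀ := by rw [← F.setup.z_comm hxP]; group
  have hyf : y * f * y⁻¹ = f := by
    calc y * f * y⁻¹ = x⁻¹ * ((t * x * t) * f * (t * x * t)⁻¹) * x := by rw [hy]; group
      _ = f := by rw [F.txt_f hx]; group
  have hy2 : y * y ∈ C := by
    refine F.cent (mul_mem hyS hyS) (mul_inv_eq_iff_eq_mul.1 ?_) (mul_inv_eq_iff_eq_mul.1 ?_)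
    · rw [show y * y * a * (y * y)⁻¹ = y * (y * a * y⁻¹) * y⁻¹ by group, hya,
        show y * (a * z₀) * y⁻¹ = (y * a * y⁻¹) * (y * z₀ * y⁻¹) by group, hya, F.setup.z_comm hyP,
        mul_inv_cancel_right, mul_assoc, F.setup.z_mul, mul_one]
    · rw [show y * y * f * (y * y)⁻¹ = y * (y * f * y⁻¹) * y⁻¹ by group, hyf, hyf]
  obtain ⟨p, hp⟩ := F.exists_rep hy2
  have hyap : y * a ^ p * y⁻¹ = a ^ p * z₀ ^ p := by
    rw [← conj_zpow, hya]
    exact Commute.mul_zpow ((F.setup.z_comm (F.setup.SP F.aS))) p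
  have hzp : z₀ ^ p = 1 := by
    have hfix : y * (y * y) * y⁻¹ = y * y := by group
    rcases hp with e | e <;> rw [e] at hfix
    · rw [hyap] at hfix
      exact mul_left_cancel (a := a ^ p) (by rw [hfix, mul_one])
    · rw [show y * (a ^ p * f) * y⁻¹ = (y * a ^ p * y⁻¹) * (y * f * y⁻¹) by group, hyap, hyf] at hfix
      exact mul_left_cancel (a := a ^ p) (by rw [mul_right_cancel hfix, mul_one])
  obtain ⟨l, hl⟩ : ∃ l, p = l + l := by
    rcases Int.even_or_odd p with ⟨l, hl⟩ | ⟨l, hl⟩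
    · exact ⟨l, hl⟩
    · rw [hl, zpow_add, zpow_mul, zpow_two, F.setup.z_mul, one_zpow, one_mul, zpow_one] at hzp
      exact absurd hzp F.setup.z_ne
  have hinv : t * (y * y) * t = (y * y)⁻¹ := by
    calc t * (y * y) * t = t * y * (t * t) * y * t := by rw [F.setup.tt]; group
      _ = (t * y * t) * (t * y * t) := by group
      _ = (y * y)⁻¹ := by rw [hty]; group
  have hsq : y * y = a ^ p := hp.resolve_right fun e => by
    rw [e] at hinv
    rw [show t * (a ^ p * f) * t = (t * a ^ p * t) * (t * f * t) by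
      rw [show t * a ^ p * t * (t * f * t) = t * a ^ p * (t * t) * f * t by group, F.setup.tt]; group,
      F.tapow, F.tf, mul_inv_rev, inv_eq_of_mul_eq_one_right F.f2, ← zpow_neg, ← F.af (-p),
      ← mul_assoc] at hinv
    exact F.setup.z_ne (mul_left_cancel (a := a ^ (-p) * f) (by rw [hinv, mul_one]))
  have hyC : y ∈ C := F.key hyS (l := -l) (by
    rw [hty, show -l + -l = -p by omega, zpow_neg, ← hsq]; group)
  rw [mul_inv_eq_iff_eq_mul.2 (F.Cc y hyC a F.aC)] at hya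
  exact F.setup.z_ne (mul_left_cancel (a := a) (by rw [mul_one]; exact hya.symm))

theorem txt {x : G} (hx : x ∈ S) : ∃ j : ℤ, t * x * t = x * a ^ j := by
  obtain ⟨s, hs⟩ := F.act hx
  set v := x⁻¹ * (t * x * t) with hv
  have hvS : v ∈ S := mul_mem (inv_mem hx) (F.setup.tconj hx)
  have h1 : (t * x * t) * a * (t * x * t)⁻¹ = a ^ s := by
    calc t * x * t * a * (t * x * t)⁻¹ = t * x * (t * a * t⁻¹) * x⁻¹ * t⁻¹ := by group
      _ = t * x * a⁻¹ * x⁻¹ * t := by rw [F.setup.inv_t, F.ta]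
      _ = t * (x * a * x⁻¹)⁻¹ * t := by group
      _ = a ^ s := by rw [hs, ← zpow_neg, F.tapow, neg_neg]
  have hvC : v ∈ C := by
    refine F.cent hvS (mul_inv_eq_iff_eq_mul.1 ?_) (mul_inv_eq_iff_eq_mul.1 ?_)
    · calc v * a * v⁻¹ = x⁻¹ * ((t * x * t) * a * (t * x * t)⁻¹) * x := by rw [hv]; group
        _ = a := by rw [h1, ← hs]; group
    · calc v * f * v⁻¹ = x⁻¹ * ((t * x * t) * f * (t * x * t)⁻¹) * x := by rw [hv]; group
        _ = f := by rw [F.txt_f hx]; group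
  obtain ⟨j, hj⟩ := F.exists_rep hvC
  refine ⟨j, ?_⟩
  have hjv : v = a ^ j := hj.resolve_right fun e => by
    have hinv : t * v * t = v⁻¹ := F.txt_inv
    rw [e, show t * (a ^ j * f) * t = (t * a ^ j * t) * (t * f * t) by
      rw [show t * a ^ j * t * (t * f * t) = t * a ^ j * (t * t) * f * t by group, F.setup.tt]; group,
      F.tapow, F.tf, mul_inv_rev, inv_eq_of_mul_eq_one_right F.f2, ← zpow_neg, ← F.af (-j),
      ← mul_assoc] at hinv
    exact F.setup.z_ne (mul_left_cancel (a := a ^ (-j) * f) (by rw [hinv, mul_one]))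
  rw [← hjv, hv, mul_inv_cancel_left]

theorem txt_odd {x : G} (hx : x ∈ S) (hxC : x ∉ C) {j : ℤ} (hj : t * x * t = x * a ^ j) : Odd j := by
  by_contra hodd
  obtain ⟨l, hl⟩ := Int.not_odd_iff_even.1 hodd
  exact hxC (F.key hx (l := l) (by rw [hj, hl]))

theorem mul_inv_mem_C {x₁ x₂ : G} (h1 : x₁ ∈ S) (h2 : x₂ ∈ S) (h1C : x₁ ∉ C) (h2C : x₂ ∉ C) :
    x₁ * x₂⁻¹ ∈ C := by
  obtain ⟨j₁, e1⟩ := F.txt h1
  obtain ⟨j₂, e2⟩ := F.txt h2
  obtain ⟨s, hs⟩ := F.act h2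
  obtain ⟨l₁, hl₁⟩ := F.txt_odd h1 h1C e1
  obtain ⟨l₂, hl₂⟩ := F.txt_odd h2 h2C e2
  refine F.key (mul_mem h1 (inv_mem h2)) (l := s * (l₁ - l₂)) ?_
  calc t * (x₁ * x₂⁻¹) * t = t * x₁ * (t * t) * x₂⁻¹ * t := by rw [F.setup.tt]; group
    _ = (t * x₁ * t) * (t⁻¹ * x₂ * t⁻¹)⁻¹ := by group
    _ = x₁ * x₂⁻¹ * (x₂ * a ^ (j₁ - j₂) * x₂⁻¹) := by rw [F.setup.inv_t, e1, e2]; group
    _ = x₁ * x₂⁻¹ * a ^ (s * (l₁ - l₂) + s * (l₁ - l₂)) := by
        rw [← conj_zpow, hs, ← zpow_mul]; congr 2; rw [hl₁, hl₂]; ring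

theorem inv_mul_mem_C {x₁ x₂ : G} (h1 : x₁ ∈ S) (h2 : x₂ ∈ S) (h1C : x₁ ∉ C) (h2C : x₂ ∉ C) :
    x₁⁻¹ * x₂ ∈ C := by
  simpa using F.mul_inv_mem_C (inv_mem h1) (inv_mem h2) (fun h => h1C (by simpa using inv_mem h))
    (fun h => h2C (by simpa using inv_mem h))

theorem sq_mem_C {x : G} (hx : x ∈ S) : x * x ∈ C := by
  by_cases hxC : x ∈ C
  · exact mul_mem hxC hxC
  · simpa using F.mul_inv_mem_C hx (inv_mem hx) hxC (fun h => hxC (by simpa using inv_mem h))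

theorem act_inv {x : G} (hx : x ∈ S) {s : ℤ} (hs : x * a * x⁻¹ = a ^ s) : x⁻¹ * a * x = a ^ s := by
  calc x⁻¹ * a * x = x⁻¹ * ((x * x) * a * (x * x)⁻¹) * x := by
        rw [F.Cc _ (F.sq_mem_C hx) a F.aC, mul_inv_cancel_right]
    _ = x * a * x⁻¹ := by group
    _ = a ^ s := hs

theorem sq_class {x c : G} (hx : x ∈ S) (hc : c ∈ C) :
    ∃ s i : ℤ, x * a * x⁻¹ = a ^ s ∧ (Odd s → Even i) ∧ x * c * (x * c) = x * x * a ^ i := by
  obtain ⟨s, hs⟩ := F.act hx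
  refine ⟨s, ?_⟩
  obtain ⟨m, -, hz⟩ := F.order_a
  have hconj : ∀ i : ℤ, x⁻¹ * a ^ i * x = a ^ (s * i) := fun i => by
    have := conj_zpow (i := i) (a := x⁻¹) (b := a)
    rw [inv_inv] at this
    rw [← this, F.act_inv hx hs, ← zpow_mul]
  obtain ⟨i, rfl | rfl⟩ := F.exists_rep hc
  · exact ⟨s * i + i, hs, fun ⟨l, hl⟩ => ⟨(l + 1) * i, by rw [hl]; ring⟩,
      by rw [show x * a ^ i * (x * a ^ i) = x * x * ((x⁻¹ * a ^ i * x) * a ^ i) by group, hconj, ← zpow_add]⟩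
  · rcases F.conj_f (F.setup.SP (inv_mem hx)) with e | e
    · rw [inv_inv] at e
      refine ⟨s * i + i, hs, fun ⟨l, hl⟩ => ⟨(l + 1) * i, by rw [hl]; ring⟩, ?_⟩
      rw [show x * (a ^ i * f) * (x * (a ^ i * f)) = x * x * ((x⁻¹ * a ^ i * x) * (x⁻¹ * f * x) * (a ^ i * f)) by group,
        hconj, e, show a ^ (s * i) * f * (a ^ i * f) = a ^ (s * i) * (f * a ^ i) * f by group, ← F.af,
        show a ^ (s * i) * (a ^ i * f) * f = a ^ (s * i + i) * (f * f) by group, F.f2, mul_one]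
    · rw [inv_inv] at e
      refine ⟨s * i + i + ((2 ^ (m + 1) : ℕ) : ℤ), hs,
        fun ⟨l, hl⟩ => ⟨(l + 1) * i + 2 ^ m, by rw [hl, pow_succ]; push_cast; ring⟩, ?_⟩
      rw [show x * (a ^ i * f) * (x * (a ^ i * f)) = x * x * ((x⁻¹ * a ^ i * x) * (x⁻¹ * f * x) * (a ^ i * f)) by group,
        hconj, e, zpow_add _ (s * i + i), zpow_natCast, hz,
        show a ^ (s * i) * (f * z₀) * (a ^ i * f) = a ^ (s * i) * f * (z₀ * (a ^ i * f)) by group,
        ← F.setup.z_comm (F.setup.SP (mul_mem (zpow_mem F.aS i) F.fS)),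
        show a ^ (s * i) * f * (a ^ i * f * z₀) = a ^ (s * i) * (f * a ^ i) * f * z₀ by group, ← F.af,
        show a ^ (s * i) * (a ^ i * f) * f * z₀ = a ^ (s * i + i) * (f * f) * z₀ by group, F.f2, mul_one]

end Frame

end Cfsg.Agent.Components.CyclicFour
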