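/-
Squares inside `⟨a⟩`: then `S` would be dihedral times two, and `z` is isolated.
Main results: `Frame.false_of_sq_mem`.
-/
import Cfsg.Agent.Lib.Components.CyclicFour.Frame
import Cfsg.Agent.Lib.PGroup.MaximalClass

set_option autoImplicit false
set_option linter.style.haveILetI false
set_option linter.unusedSectionVars false

namespace Cfsg.Agent.Components.CyclicFour

open Subgroup
open scoped commutatorElement

variable {G : Type*} [Group G] [Finite G] {A S P C : Subgroup G} {t r f a : G}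

namespace Frame

variable (F : Frame A S P C t r f a)
include F

local notation "z₀" => r * r

theorem fzC : f * z₀ ∈ C := mul_mem F.fC F.zC

theorem fz_sq : f * z₀ * (f * z₀) = 1 := by
  rw [show f * z₀ * (f * z₀) = f * (z₀ * f) * z₀ by group, ← F.setup.z_comm (F.setup.SP F.fS),
    show f * (f * z₀) * z₀ = (f * f) * (z₀ * z₀) by group, F.f2, F.setup.z_mul, mul_one]

/-- If every square of `S` lies in `⟨a⟩` there is a contradiction. -/
theorem false_of_sq_mem {y : G} (hy : y ∈ S) (hyC : y ∉ C)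
    (hsqa : ∀ x ∈ S, x * x ∈ zpowers a) : False := by
  haveI : Fact (Nat.Prime 2) := ⟨Nat.prime_two⟩
  classical
  obtain ⟨m, hom, hzm⟩ := F.order_a
  have hz_pow : z₀ ∈ zpowers a := hzm ▸ pow_mem (mem_zpowers a) _
  have hone : ∀ q ∈ S, (q * q) * (q * q) = 1 → q * q = 1 ∨ q * q = z₀ := by
    intro q hq hqq
    obtain ⟨i, hi⟩ := mem_zpowers_iff.1 (hsqa q hq)
    rw [← hi] at hqq ⊢
    exact F.invol_powers hqq
  have hrc : ∀ e ∈ C, r * e = e * r := fun e he => F.Cc r F.rC e he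
  -- `f`, `fz` are not fused to `z`
  have hnf : ∀ e ∈ C, e ≠ z₀ → ∀ g ∈ A, g * e * g⁻¹ ≠ z₀ := fun e he hne g hg hge =>
    hne (F.setup.eq_of_fusion F.setup.maxS F.setup.SP hone F.rS (hrc e he) rfl hg hge)
  have hfzne : f * z₀ ≠ z₀ := fun e => F.f1 (mul_eq_right.1 e)
  -- the subgroup `⟨a⟩ ∪ x⟨a⟩`
  have hM : ∀ x ∈ S, x ∉ C → ∃ M : Subgroup G, M ≤ S ∧ M.relIndex S = 2 ∧ f ∉ M ∧
      ∀ u ∈ M, u ∈ zpowers a ∨ ∃ i : ℤ, u = x * a ^ i := by
    intro x hx hxC
    obtain ⟨s, hs⟩ := F.act hx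
    obtain ⟨p, hp⟩ := mem_zpowers_iff.1 (hsqa x hx)
    have hconj : ∀ i : ℤ, x⁻¹ * a ^ i * x = a ^ (s * i) := fun i => by
      have := conj_zpow (i := i) (a := x⁻¹) (b := a)
      rw [inv_inv] at this
      rw [← this, F.act_inv hx hs, ← zpow_mul]
    have hax : ∀ i : ℤ, a ^ i * x = x * a ^ (s * i) := fun i => by rw [← hconj]; group
    let M : Subgroup G :=
      { carrier := {u | u ∈ zpowers a ∨ ∃ i : ℤ, u = x * a ^ i}
        mul_mem' := by
          rintro u v (hu | ⟨i, rfl⟩) (hv | ⟨j, rfl⟩)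
          · exact Or.inl (mul_mem hu hv)
          · obtain ⟨i, rfl⟩ := mem_zpowers_iff.1 hu
            exact Or.inr ⟨s * i + j, by rw [← mul_assoc, hax, mul_assoc, ← zpow_add]⟩
          · obtain ⟨j, rfl⟩ := mem_zpowers_iff.1 hv
            exact Or.inr ⟨i + j, by rw [mul_assoc, ← zpow_add]⟩
          · refine Or.inl (mem_zpowers_iff.2 ⟨p + (s * i + j), ?_⟩)
            rw [show x * a ^ i * (x * a ^ j) = x * (a ^ i * x) * a ^ j by group, hax,
              show x * (x * a ^ (s * i)) * a ^ j = x * x * a ^ (s * i + j) by group, ← hp, ← zpow_add]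
        one_mem' := Or.inl (one_mem _)
        inv_mem' := by
          rintro u (hu | ⟨i, rfl⟩)
          · exact Or.inl (inv_mem hu)
          · refine Or.inr ⟨s * (-i) + -p, ?_⟩
            rw [mul_inv_rev, ← zpow_neg, show x⁻¹ = x * (x * x)⁻¹ by group, ← hp, ← zpow_neg,
              ← mul_assoc, hax, mul_assoc, ← zpow_add] }
    have hxa : ∀ i : ℤ, f ≠ x * a ^ i := fun i e => hxC (by
      rw [show x = f * (a ^ i)⁻¹ by rw [e]; group]
      exact mul_mem F.fC (inv_mem (zpow_mem F.aC i)))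
    have hfM : f ∉ M := fun hf => hf.elim F.f_not fun ⟨i, hi⟩ => hxa i hi
    refine ⟨M, ?_, relIndex_two_of_coset F.fS hfM fun u hu => ?_, hfM, fun u hu => hu⟩
    · rintro u (hu | ⟨i, rfl⟩)
      · exact zpowers_le.2 F.aS hu
      · exact mul_mem hx (zpow_mem F.aS i)
    · by_cases huC : u ∈ C
      · rcases F.decC u huC with e | e
        · exact Or.inl (Or.inl e)
        · exact Or.inr (Or.inl e)
      · obtain ⟨i, hi | hi⟩ := F.exists_rep (F.inv_mul_mem_C hx hu hxC huC)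
        · exact Or.inl (Or.inr ⟨i, by rw [← hi, mul_inv_cancel_left]⟩)
        · exact Or.inr (Or.inr ⟨i, by
            rw [show u = x * (a ^ i * f) by rw [← hi, mul_inv_cancel_left], mul_assoc, mul_assoc, F.f2, mul_one]⟩)
  -- every coset of `⟨a⟩` outside `C` has an involution conjugate to `f`
  have hfus : ∀ x ∈ S, x ∉ C → ∃ i : ℤ, ∃ g ∈ A, g * f * g⁻¹ = x * a ^ i := by
    intro x hx hxC
    obtain ⟨M, hMS, hMi, hfM, hMmem⟩ := hM x hx hxC
    obtain ⟨g, hg, hgM⟩ := F.setup.exists_conj_of_index_two hMS hMi F.fS F.f2 F.f1 hfM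
    rcases hMmem _ hgM with e | ⟨i, hi⟩
    · exfalso
      obtain ⟨i, hi⟩ := mem_zpowers_iff.1 e
      rcases F.invol_powers (i := i) (by rw [hi, show g * f * g⁻¹ * (g * f * g⁻¹) = g * (f * f) * g⁻¹ by group, F.f2]; group)
        with e1 | e1
      · exact F.f1 (conj_eq_one_iff.1 (hi.symm.trans e1))
      · exact hnf f F.fC F.fz g hg (hi.symm.trans e1)
    · exact ⟨i, g, hg, hi⟩
  have hinvol : ∀ x ∈ S, x ∉ C → x * x = 1 → x * a * x⁻¹ = a⁻¹ := by
    intro x hx hxC hx2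
    obtain ⟨s, hs⟩ := F.act hx
    obtain ⟨j, hj⟩ := F.txt hx
    obtain ⟨l, hl⟩ := F.txt_odd hx hxC hj
    have h1 : (x * a ^ j) * (x * a ^ j) = 1 := by
      rw [← hj, show t * x * t * (t * x * t) = t * x * (t * t) * x * t by group, F.setup.tt, mul_one,
        mul_assoc t x x, hx2, mul_one, F.setup.tt]
    have hconj : x⁻¹ * a ^ j * x = a ^ (s * j) := by
      have := conj_zpow (i := j) (a := x⁻¹) (b := a)
      rw [inv_inv] at this
      rw [← this, F.act_inv hx hs, ← zpow_mul]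
    rw [show x * a ^ j * (x * a ^ j) = (x * x) * ((x⁻¹ * a ^ j * x) * a ^ j) by group, hx2, one_mul, hconj,
      ← zpow_add] at h1
    have h2 : (a ^ (s + 1)) ^ j = 1 := by rw [← zpow_mul, show (s + 1) * j = s * j + j by ring]; exact h1
    have h3 : (a ^ (s + 1)) ^ ((2 ^ (m + 2) : ℕ) : ℤ) = 1 := by
      rw [← zpow_mul, mul_comm, zpow_mul, zpow_natCast, ← hom, pow_orderOf_eq_one, one_zpow]
    have h4 := Int.dvd_coe_gcd (orderOf_dvd_iff_zpow_eq_one.2 h2) (orderOf_dvd_iff_zpow_eq_one.2 h3)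
    have hg : Int.gcd j (((2 ^ (m + 2) : ℕ)) : ℤ) = 1 := by
      rw [Int.gcd_eq_natAbs, Int.natAbs_natCast]
      apply Nat.Coprime.pow_right
      exact Nat.coprime_two_right.2 (Int.natAbs_odd.2 ⟨l, hl⟩)
    rw [hg] at h4
    have h5 : a ^ (s + 1) = 1 := orderOf_eq_one_iff.1 (Nat.dvd_one.1 (by exact_mod_cast h4))
    rw [hs]
    exact eq_inv_of_mul_eq_one_left (by rwa [zpow_add_one] at h5)
  -- a conjugate `u` of `f` outside `C`
  obtain ⟨i₀, g₀, hg₀, hu⟩ := hfus y hy hyC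
  set u := y * a ^ i₀ with hu_def
  have huS : u ∈ S := mul_mem hy (zpow_mem F.aS i₀)
  have huC : u ∉ C := fun hc => hyC (by simpa [hu_def] using mul_mem hc (inv_mem (zpow_mem F.aC i₀)))
  have hu2 : u * u = 1 := by
    rw [← hu, show g₀ * f * g₀⁻¹ * (g₀ * f * g₀⁻¹) = g₀ * (f * f) * g₀⁻¹ by group, F.f2]; group
  have hua : ∀ i : ℤ, u * a ^ i * u⁻¹ = a ^ (-i) := fun i => by
    rw [← conj_zpow, hinvol u huS huC hu2, inv_zpow']
  -- `f` is central in `S`
  have hufC : u * f ∉ C := fun hc => huC (by simpa [mul_assoc, F.f2] using mul_mem hc F.fC)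
  have huf : u * f = f * u := by
    obtain ⟨i, g, hg, hgu⟩ := hfus (u * f) (mul_mem huS F.fS) hufC
    have h2 : (u * f * a ^ i) * (u * f * a ^ i) = 1 := by
      rw [← hgu, show g * f * g⁻¹ * (g * f * g⁻¹) = g * (f * f) * g⁻¹ by group, F.f2]; group
    have e2 : a ^ i * u = u * a ^ (-i) := by
      rw [← hua]; simp only [← mul_assoc, inv_eq_of_mul_eq_one_right hu2, hu2, one_mul]
    have e3 : u * f * a ^ i * (u * f * a ^ i) = u * f * u * f := by
      calc u * f * a ^ i * (u * f * a ^ i) = u * f * (a ^ i * u) * (f * a ^ i) := by group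
        _ = u * f * (u * a ^ (-i)) * (a ^ i * f) := by rw [e2, F.af]
        _ = u * f * u * f := by group
    rw [e3, mul_assoc (u * f) u f] at h2
    have h3 := eq_inv_of_mul_eq_one_left h2
    rwa [mul_inv_rev, inv_eq_of_mul_eq_one_right F.f2, inv_eq_of_mul_eq_one_right hu2] at h3
  have hfS : ∀ x ∈ S, x * f = f * x := by
    intro x hx
    by_cases hxC : x ∈ C
    · exact F.Cc x hxC f F.fC
    · have hc := F.inv_mul_mem_C huS hx huC hxC
      calc x * f = u * (u⁻¹ * x * f) := by group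
        _ = u * (f * (u⁻¹ * x)) := by rw [F.Cc _ hc f F.fC]
        _ = u * f * (u⁻¹ * x) := by group
        _ = f * x := by rw [huf]; group
  -- `z` is isolated
  have hiso : ∀ g ∈ A, g * z₀ * g⁻¹ ∈ S → g * z₀ * g⁻¹ = z₀ := by
    intro g hg hgS
    set v := g * z₀ * g⁻¹ with hv
    have hv2 : v * v = 1 := by
      rw [hv, show g * z₀ * g⁻¹ * (g * z₀ * g⁻¹) = g * (z₀ * z₀) * g⁻¹ by group, F.setup.z_mul]; group
    by_cases hvC : v ∈ C
    · rcases Setup.involutions F.setup F.CS F.CP F.Cc F.CC F.fC F.f2 F.f1 F.fz hvC hv2 with e | e | e | e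
      · exact absurd (conj_eq_one_iff.1 e) F.setup.z_ne
      · exact e
      · exact absurd (show g⁻¹ * f * (g⁻¹)⁻¹ = z₀ by rw [← e, hv]; group) (hnf f F.fC F.fz g⁻¹ (inv_mem hg))
      · exact absurd (show g⁻¹ * (f * z₀) * (g⁻¹)⁻¹ = z₀ by rw [← e, hv]; group)
          (hnf _ F.fzC hfzne g⁻¹ (inv_mem hg))
    · exfalso
      obtain ⟨i, g', hg', hg'f⟩ := hfus v hgS hvC
      have hva : ∀ k : ℤ, a ^ k * v * a ^ (-k) = v * a ^ (-(k + k)) := fun k => by
        have : v⁻¹ * a ^ k * v = a ^ (-k) := by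
          have h1 := conj_zpow (i := k) (a := v) (b := a)
          rw [hinvol v hgS hvC hv2, inv_zpow', inv_eq_of_mul_eq_one_right hv2] at h1
          rw [inv_eq_of_mul_eq_one_right hv2]
          exact h1.symm
        calc a ^ k * v * a ^ (-k) = v * ((v⁻¹ * a ^ k * v) * a ^ (-k)) := by group
          _ = v * a ^ (-(k + k)) := by rw [this, ← zpow_add]; congr 2; ring
      obtain ⟨j, hj⟩ := F.txt hgS
      obtain ⟨l', hl'⟩ := F.txt_odd hgS hvC hj
      rcases Int.even_or_odd i with ⟨l, hl⟩ | ⟨l, hl⟩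
      · refine hnf f F.fC F.fz (g⁻¹ * a ^ l * g') (mul_mem (mul_mem (inv_mem hg)
          (zpow_mem (F.setup.SA F.aS) l)) hg') ?_
        calc g⁻¹ * a ^ l * g' * f * (g⁻¹ * a ^ l * g')⁻¹
            = g⁻¹ * (a ^ l * (g' * f * g'⁻¹) * a ^ (-l)) * g := by group
          _ = g⁻¹ * ((a ^ l * v * a ^ (-l)) * a ^ i) * g := by rw [hg'f]; group
          _ = g⁻¹ * v * g := by rw [hva, mul_assoc v, ← zpow_add, hl, neg_add_cancel, zpow_zero, mul_one]
          _ = z₀ := by rw [hv]; group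
      · set k := l - l'
        have hgt : t * g⁻¹ * t ∈ A := by
          have := F.setup.conjA (mem_sup_right (mem_zpowers t)) (inv_mem hg)
          rwa [F.setup.inv_t] at this
        refine hnf f F.fC F.fz (t * g⁻¹ * t * a ^ k * g') (mul_mem (mul_mem hgt
          (zpow_mem (F.setup.SA F.aS) k)) hg') ?_
        calc t * g⁻¹ * t * a ^ k * g' * f * (t * g⁻¹ * t * a ^ k * g')⁻¹
            = t * g⁻¹ * t * (a ^ k * (g' * f * g'⁻¹) * a ^ (-k)) * t⁻¹ * g * t⁻¹ := by group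
          _ = t * g⁻¹ * t * ((a ^ k * v * a ^ (-k)) * a ^ i) * t * g * t := by
              rw [hg'f, F.setup.inv_t]; group
          _ = t * g⁻¹ * t * (v * a ^ j) * t * g * t := by
              rw [hva, mul_assoc v, ← zpow_add, hl, hl', show -(k + k) + (2 * l + 1) = 2 * l' + 1 by omega]
          _ = t * g⁻¹ * (t * t) * v * (t * t) * g * t := by rw [← hj]; group
          _ = t * z₀ * t := by rw [F.setup.tt, hv]; group
          _ = z₀ := by rw [F.setup.z_comm F.setup.tP, mul_assoc, F.setup.tt, mul_one]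
  -- `z` is central modulo a normal subgroup of odd order
  have hzA := F.setup.SA F.setup.z_mem
  obtain ⟨N, hN, hNodd, hNc⟩ := S0215.result F.setup.sylowOf (⟨z₀, hzA⟩ : ↥A)
    (by rw [← Subgroup.orderOf_coe]; exact orderOf_eq_prime (by rw [pow_two, F.setup.z_mul]) F.setup.z_ne)
    F.setup.z_mem (fun g hg => Subtype.ext (hiso g g.2 hg))
  -- hence `f` is conjugate to `fz`
  set m₁ : ℤ := ((2 ^ m : ℕ) : ℤ)
  have huz : a ^ (-m₁) * u * a ^ m₁ = u * z₀ := by
    have : u⁻¹ * a ^ (-m₁) * u = a ^ m₁ := by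
      have h1 := hua (-m₁)
      rw [neg_neg, inv_eq_of_mul_eq_one_right hu2] at h1
      rw [inv_eq_of_mul_eq_one_right hu2]; exact h1
    calc a ^ (-m₁) * u * a ^ m₁ = u * ((u⁻¹ * a ^ (-m₁) * u) * a ^ m₁) := by group
      _ = u * z₀ := by
          rw [this, ← zpow_add, show m₁ + m₁ = ((2 ^ (m + 1) : ℕ) : ℤ) by
            simp [m₁, pow_succ]; ring, zpow_natCast, hzm]
  set ζ := g₀⁻¹ * z₀ * g₀
  set ν := z₀ * ζ with hν
  have hNν : ν ∈ N.map A.subtype := by
    refine ⟨_, hNc ⟨g₀⁻¹, inv_mem hg₀⟩, ?_⟩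
    simp only [coe_subtype, Subgroup.coe_mul, Subgroup.coe_inv, inv_inv]
    rw [inv_eq_of_mul_eq_one_right F.setup.z_mul, hν]
    simp only [ζ, mul_assoc]
  set w := g₀⁻¹ * (u * z₀) * g₀ with hw
  have hwν : w = f * z₀ * ν := by
    calc w = g₀⁻¹ * u * g₀ * ζ := by rw [hw]; simp only [ζ]; group
      _ = f * ζ := by rw [← hu]; group
      _ = f * (z₀ * z₀) * ζ := by rw [F.setup.z_mul, mul_one]
      _ = f * z₀ * ν := by rw [hν]; group
  let H : Subgroup G := N.map A.subtype ⊔ zpowers (f * z₀)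
  have hfzA : f * z₀ ∈ A := F.setup.SA (F.CS F.fzC)
  have hNn : zpowers (f * z₀) ≤ normalizer ((N.map A.subtype : Subgroup G) : Set G) := by
    have := le_normalizer_map (H := N) A.subtype
    rw [normalizer_eq_top (H := N), ← MonoidHom.range_eq_map, range_subtype] at this
    exact (zpowers_le.2 hfzA).trans this
  have hmax : IsMaxP 2 (zpowers (f * z₀)) H := by
    refine ⟨le_sup_right, isPGroup_zpowers (k := 1) (by rw [pow_one, pow_two, F.fz_sq]),
      fun R hR hRp hle => le_antisymm (fun x hx => ?_) hle⟩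
    have hx' : x ∈ ((N.map A.subtype ⊔ zpowers (f * z₀) : Subgroup G) : Set G) := hR hx
    rw [Subgroup.coe_mul_of_right_le_normalizer_left _ _ hNn, Set.mem_mul] at hx'
    obtain ⟨n, hn, q, hq, rfl⟩ := hx'
    have hnR : n ∈ R := by simpa using mul_mem hx (inv_mem (hle hq))
    obtain ⟨e, he⟩ := hRp ⟨n, hnR⟩
    have h2 : orderOf n ∣ 2 ^ e := orderOf_dvd_of_pow_eq_one (congrArg Subtype.val he)
    have h3 : orderOf n ∣ Nat.card N := by
      have := Subgroup.orderOf_dvd_natCard (N.map A.subtype) hn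
      rwa [card_map_of_injective A.subtype_injective] at this
    have hn1 : n = 1 := orderOf_eq_one_iff.1
      (Nat.eq_one_of_dvd_coprimes ((Nat.coprime_two_left.2 hNodd).pow_left e) h2 h3)
    rw [hn1, one_mul]; exact hq
  have hw2 : w * w = 1 := by
    rw [hw, show g₀⁻¹ * (u * z₀) * g₀ * (g₀⁻¹ * (u * z₀) * g₀) = g₀⁻¹ * (u * (z₀ * u) * z₀) * g₀ by group,
      ← F.setup.z_comm (F.setup.SP huS), show u * (u * z₀) * z₀ = (u * u) * (z₀ * z₀) by group, hu2,
      F.setup.z_mul]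
    group
  have hwH : w ∈ H := by
    rw [hwν]
    exact mul_mem (mem_sup_right (mem_zpowers _)) (mem_sup_left hNν)
  obtain ⟨b, hb, hwb⟩ := exists_conj_le_max hmax (zpowers_le.2 hwH)
    (isPGroup_zpowers (k := 1) (by rw [pow_one, pow_two, hw2]))
  have hbA : b ∈ A := (sup_le (map_subtype_le N) (zpowers_le.2 hfzA) : H ≤ A) hb
  have hbw : b⁻¹ * w * b = f * z₀ := by
    obtain ⟨i, hi⟩ := mem_zpowers_iff.1 (mem_conjOf.1 (hwb (mem_zpowers w)))
    rcases Int.even_or_odd i with ⟨l, hl⟩ | ⟨l, hl⟩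
    · exfalso
      rw [hl, ← two_mul, zpow_mul, zpow_two, F.fz_sq, one_zpow] at hi
      have hw1 : w = 1 := by
        calc w = b * (b⁻¹ * w * b) * b⁻¹ := by group
          _ = 1 := by rw [← hi]; group
      rw [hw] at hw1
      have huz1 : u * z₀ = 1 := by
        calc u * z₀ = g₀ * (g₀⁻¹ * (u * z₀) * g₀) * g₀⁻¹ := by group
          _ = 1 := by rw [hw1]; group
      exact huC (by rw [eq_inv_of_mul_eq_one_left huz1]; exact inv_mem F.zC)
    · rw [← hi, hl, zpow_add, zpow_mul, zpow_two, F.fz_sq, one_zpow, one_mul, zpow_one]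
  obtain ⟨n, hnA, hnS, hnf'⟩ := exists_central_conj F.setup.maxS (x := f) (y := f * z₀)
    (a := b⁻¹ * g₀⁻¹ * a ^ (-m₁) * g₀)
    (mul_mem (mul_mem (mul_mem (inv_mem hbA) (inv_mem hg₀)) (zpow_mem (F.setup.SA F.aS) _)) hg₀)
    hfS (fun s hs => by rw [← mul_assoc, hfS s hs, mul_assoc, F.setup.z_comm (F.setup.SP hs), ← mul_assoc])
    (by
      calc b⁻¹ * g₀⁻¹ * a ^ (-m₁) * g₀ * f * (b⁻¹ * g₀⁻¹ * a ^ (-m₁) * g₀)⁻¹
          = b⁻¹ * g₀⁻¹ * (a ^ (-m₁) * (g₀ * f * g₀⁻¹) * a ^ m₁) * g₀ * b := by group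
        _ = b⁻¹ * (g₀⁻¹ * (u * z₀) * g₀) * b := by rw [hu, huz]; group
        _ = f * z₀ := by rw [← hw, hbw])
  -- an element normalizing `S` cannot swap `f` and `fz`
  have hnz : n * z₀ * n⁻¹ = z₀ := hiso n hnA (hnS _ F.setup.z_mem)
  have hnfz : n * (f * z₀) * n⁻¹ = f := by
    rw [show n * (f * z₀) * n⁻¹ = (n * f * n⁻¹) * (n * z₀ * n⁻¹) by group, hnf', hnz, mul_assoc,
      F.setup.z_mul, mul_one]
  have hpow : ∀ k : ℕ, (Even k → n ^ k * f * (n ^ k)⁻¹ = f) ∧ (Odd k → n ^ k * f * (n ^ k)⁻¹ = f * z₀) := by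
    intro k
    induction k with
    | zero => exact ⟨fun _ => by simp, fun hk => absurd hk (by simp)⟩
    | succ k ih =>
      have hs : n ^ (k + 1) * f * (n ^ (k + 1))⁻¹ = n * (n ^ k * f * (n ^ k)⁻¹) * n⁻¹ := by
        rw [pow_succ']; group
      constructor
      · intro hk
        rw [hs, ih.2 (by rw [Nat.even_add_one] at hk; exact Nat.not_even_iff_odd.1 hk), hnfz]
      · intro hk
        rw [hs, ih.1 (by rw [Nat.odd_add_one] at hk; exact Nat.not_odd_iff_even.1 hk), hnf']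
  obtain ⟨e, k, hk, hek⟩ := Nat.exists_eq_two_pow_mul_odd (orderOf_pos n).ne'
  have hnN : ∀ i : ℕ, ∀ s ∈ S, n ^ i * s * (n ^ i)⁻¹ ∈ S := by
    intro i
    induction i with
    | zero => intro s hs; simpa using hs
    | succ i ih =>
      intro s hs
      rw [show n ^ (i + 1) * s * (n ^ (i + 1))⁻¹ = n * (n ^ i * s * (n ^ i)⁻¹) * n⁻¹ by rw [pow_succ']; group]
      exact hnS _ (ih s hs)
  have hτ : n ^ k ∈ S := by
    have hp : IsPGroup 2 ↥(zpowers (n ^ k)) :=
      isPGroup_zpowers (k := e) (by rw [← pow_mul, mul_comm, ← hek, pow_orderOf_eq_one])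
    have hnorm : n ^ k ∈ normalizer (S : Set G) := mem_normalizer_of_conj_le_aux (hnN k)
    have := F.setup.maxS.2.2 (S ⊔ zpowers (n ^ k)) (sup_le F.setup.SA (zpowers_le.2 (pow_mem hnA k)))
      (isPGroup_sup_of_le_normalizer F.setup.isS hp (zpowers_le.2 hnorm)) le_sup_left
    rw [← this]; exact mem_sup_right (mem_zpowers _)
  have h1 := (hpow k).2 hk
  rw [hfS _ hτ, mul_inv_cancel_right] at h1
  exact F.setup.z_ne (mul_left_cancel (a := f) (by rw [mul_one, ← h1]))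
where
  mem_normalizer_of_conj_le_aux {g : G} (hg : ∀ s ∈ S, g * s * g⁻¹ ∈ S) : g ∈ normalizer (S : Set G) :=
    PGroup.mem_normalizer_of_conj_le hg

end Frame

end Cfsg.Agent.Components.CyclicFour
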