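/-
Squares outside `⟨a⟩`: no involutions outside `C`.
Main results: `Frame.false_of_sq_not_mem`, `Setup.false_of_rank_two`.
-/
import Cfsg.Agent.Lib.Components.CyclicFour.Split

set_option autoImplicit false
set_option linter.style.haveILetI false
set_option linter.unusedSectionVars false

namespace Cfsg.Agent.Components.CyclicFour

open Subgroup
open scoped commutatorElement

variable {G : Type*} [Group G] [Finite G] {A S P C : Subgroup G} {t r f a : G}

namespace Frame

variable (F : Frame A S P C t r f a)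
include F

local notation "z₀" => r * r

theorem zpow_z (k : ℤ) : (Even k → z₀ ^ k = 1) ∧ (Odd k → z₀ ^ k = z₀) := by
  constructor
  · rintro ⟨l, rfl⟩; rw [← two_mul, zpow_mul, zpow_two, F.setup.z_mul, one_zpow]
  · rintro ⟨l, rfl⟩
    rw [zpow_add, zpow_mul, zpow_two, F.setup.z_mul, one_zpow, one_mul, zpow_one]

theorem af_mul (i j : ℤ) : a ^ i * f * (a ^ j * f) = a ^ (i + j) := by
  rw [show a ^ i * f * (a ^ j * f) = a ^ i * (f * a ^ j) * f by group, ← F.af,
    show a ^ i * (a ^ j * f) * f = a ^ (i + j) * (f * f) by group, F.f2, mul_one]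

/-- The relations satisfied by `x ∈ S ∖ C` with `x² = a ^ p f`. -/
theorem rels {x : G} (hx : x ∈ S) (hxC : x ∉ C) {p : ℤ} (hp : x * x = a ^ p * f) :
    ∃ s j : ℤ, x * a * x⁻¹ = a ^ s ∧ Odd j ∧ a ^ (p + p + j * (s + 1)) = z₀ ∧
      a ^ (p * (s - 1)) * (x * f * x⁻¹ * f) = 1 := by
  obtain ⟨s, hs⟩ := F.act hx
  obtain ⟨j, hj⟩ := F.txt hx
  refine ⟨s, j, hs, F.txt_odd hx hxC hj, ?_, ?_⟩
  · have h1 : t * (x * x) * t = (x * x) * a ^ (j * (s + 1)) := by
      have hconj : x⁻¹ * a ^ j * x = a ^ (s * j) := by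
        have := conj_zpow (i := j) (a := x⁻¹) (b := a)
        rw [inv_inv] at this
        rw [← this, F.act_inv hx hs, ← zpow_mul]
      calc t * (x * x) * t = t * x * (t * t) * x * t := by rw [F.setup.tt]; group
        _ = (t * x * t) * (t * x * t) := by group
        _ = x * x * ((x⁻¹ * a ^ j * x) * a ^ j) := by rw [hj]; group
        _ = x * x * a ^ (j * (s + 1)) := by rw [hconj, ← zpow_add]; congr 2; ring
    have h2 : t * (a ^ p * f) * t = a ^ (-p) * f * z₀ := by
      rw [show t * (a ^ p * f) * t = (t * a ^ p * t) * (t * f * t) by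
        rw [show t * a ^ p * t * (t * f * t) = t * a ^ p * (t * t) * f * t by group, F.setup.tt]; group,
        F.tapow, F.tf, mul_assoc]
    rw [hp, h2] at h1
    have h3 : a ^ (-p) * (f * z₀) = a ^ (p + j * (s + 1)) * f := by
      rw [← mul_assoc, h1, zpow_add, mul_assoc (a ^ p), ← F.af, mul_assoc]
    calc a ^ (p + p + j * (s + 1)) = a ^ p * (a ^ (p + j * (s + 1)) * f) * f := by
          rw [← mul_assoc (a ^ p), mul_assoc _ f f, F.f2, mul_one, ← zpow_add, add_assoc]
      _ = f * z₀ * f := by rw [← h3]; group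
      _ = f * f * z₀ := by rw [mul_assoc f z₀ f, ← F.setup.z_comm (F.setup.SP F.fS)]; group
      _ = z₀ := by rw [F.f2, one_mul]
  · have h1 : x * (a ^ p * f) * x⁻¹ = a ^ p * f := by rw [← hp]; group
    rw [show x * (a ^ p * f) * x⁻¹ = (x * a ^ p * x⁻¹) * (x * f * x⁻¹) by group, ← conj_zpow, hs,
      ← zpow_mul] at h1
    set g := x * f * x⁻¹
    calc a ^ (p * (s - 1)) * (g * f) = a ^ (-p) * (a ^ (s * p) * g) * f := by
          rw [show p * (s - 1) = -p + s * p by ring, zpow_add]; group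
      _ = f * f := by rw [h1]; group
      _ = 1 := F.f2

/-- If some square of `S` avoids `⟨a⟩` there is a contradiction. -/
theorem false_of_sq_not_mem {y : G} (hy : y ∈ S) (hyC : y ∉ C) {p : ℤ} (hp : y * y = a ^ p * f) :
    False := by
  haveI : Fact (Nat.Prime 2) := ⟨Nat.prime_two⟩
  classical
  obtain ⟨m, hom, hzm⟩ := F.order_a
  have ha2 : a ^ ((2 ^ (m + 2) : ℕ) : ℤ) = 1 := by rw [zpow_natCast, ← hom, pow_orderOf_eq_one]
  have hdvd : ∀ i : ℤ, a ^ i = 1 → (2 : ℤ) ^ (m + 2) ∣ i := fun i hi => by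
    have := orderOf_dvd_iff_zpow_eq_one.2 hi
    rw [hom] at this; exact_mod_cast this
  have hzd : ∀ i : ℤ, a ^ i = z₀ → (2 : ℤ) ^ (m + 2) ∣ i - 2 ^ (m + 1) := fun i hi => hdvd _ (by
    rw [zpow_sub, hi, show ((2 : ℤ) ^ (m + 1)) = ((2 ^ (m + 1) : ℕ) : ℤ) by push_cast; rfl, zpow_natCast,
      hzm, mul_inv_cancel])
  have hconjx : ∀ x ∈ S, ∀ s : ℤ, x * a * x⁻¹ = a ^ s → ∀ i : ℤ, x * a ^ i * x⁻¹ = a ^ (s * i) := by
    intro x _ s hs i; rw [← conj_zpow, hs, ← zpow_mul]
  -- all squares outside `C` lie in `⟨a⟩f`, with exponents of constant parity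
  have hpx : ∀ x ∈ S, x ∉ C → ∃ q : ℤ, x * x = a ^ q * f ∧ Even (q - p) := by
    intro x hx hxC
    obtain ⟨s, i, hs, hpar, hi⟩ := F.sq_class hy (F.inv_mul_mem_C hy hx hyC hxC)
    rw [mul_inv_cancel_left] at hi
    refine ⟨p + i, by rw [hi, hp, mul_assoc, ← F.af, ← mul_assoc, ← zpow_add], ?_⟩
    rw [show p + i - p = i by ring]
    refine hpar ?_
    obtain ⟨s', j, hs', ⟨l, hl⟩, hE1, -⟩ := F.rels hy hyC hp
    have h1 : a ^ (s - s') = 1 := by rw [zpow_sub, ← hs, ← hs', mul_inv_cancel]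
    have h2 : (2 : ℤ) ∣ s - s' := dvd_trans (dvd_pow_self _ (by omega)) (hdvd _ h1)
    have h3 : (2 : ℤ) ∣ p + p + j * (s' + 1) - 2 ^ (m + 1) :=
      dvd_trans (dvd_pow_self _ (by omega)) (hzd _ hE1)
    have h4 : (2 : ℤ) ∣ j * (s' + 1) := by
      obtain ⟨d, hd⟩ := h3
      exact ⟨d - p + 2 ^ m, by linear_combination hd⟩
    have h5 : (2 : ℤ) ∣ s' + 1 :=
      (Int.prime_two.dvd_mul.1 h4).resolve_left (by omega)
    exact Int.odd_iff.2 (by omega)
  have hcomm_f : ∀ x ∈ S, x * f * x⁻¹ * f = 1 ∨ x * f * x⁻¹ * f = z₀ := fun x hx => by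
    rcases F.conj_f (F.setup.SP hx) with e | e <;> rw [e]
    · exact Or.inl F.f2
    · right; rw [mul_assoc, ← F.setup.z_comm (F.setup.SP F.fS), ← mul_assoc, F.f2, one_mul]
  rcases Int.even_or_odd p with hev | hodd
  rotate_left
  · -- `⟨y⟩` is cyclic of index two
    obtain ⟨q, hq⟩ := hodd
    have hpow : ∀ i : ℤ, y ^ (2 * i) = a ^ (p * i) * f ^ i := fun i => by
      rw [zpow_mul, zpow_two, hp, Commute.mul_zpow (F.af p), ← zpow_mul]
    have hf2i : ∀ i : ℤ, (Even i → f ^ i = 1) ∧ (Odd i → f ^ i = f) := fun i => by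
      constructor
      · rintro ⟨l, rfl⟩; rw [← two_mul, zpow_mul, zpow_two, F.f2, one_zpow]
      · rintro ⟨l, rfl⟩; rw [zpow_add, zpow_mul, zpow_two, F.f2, one_zpow, one_mul, zpow_one]
    obtain ⟨α, β, hαβ⟩ : IsCoprime p (((2 ^ (m + 2) : ℕ)) : ℤ) := by
      rw [Int.isCoprime_iff_gcd_eq_one, Int.gcd_eq_natAbs, Int.natAbs_natCast]
      apply Nat.Coprime.pow_right
      exact Nat.coprime_two_right.2 (Int.natAbs_odd.2 ⟨q, hq⟩)
    have hap : ∀ i : ℤ, a ^ (p * (i * α)) = a ^ i := fun i => by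
      calc a ^ (p * (i * α)) = a ^ (p * (i * α)) * (a ^ ((2 ^ (m + 2) : ℕ) : ℤ)) ^ (i * β) := by
            rw [ha2, one_zpow, mul_one]
        _ = a ^ i := by
            rw [← zpow_mul, ← zpow_add]
            congr 1
            linear_combination i * hαβ
    have hCdec : ∀ c ∈ C, c ∈ zpowers y ∨ c * f ∈ zpowers y := by
      intro c hc
      obtain ⟨i, hi⟩ := F.exists_rep hc
      have h1 := hpow (i * α)
      rw [hap] at h1
      have hm : y ^ (2 * (i * α)) ∈ zpowers y := zpow_mem (mem_zpowers y) _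
      rcases Int.even_or_odd (i * α) with e | e
      · rw [(hf2i _).1 e, mul_one] at h1
        rcases hi with rfl | rfl
        · exact Or.inl (h1 ▸ hm)
        · exact Or.inr (by rw [mul_assoc, F.f2, mul_one]; exact h1 ▸ hm)
      · rw [(hf2i _).2 e] at h1
        rcases hi with rfl | rfl
        · exact Or.inr (h1 ▸ hm)
        · exact Or.inl (h1 ▸ hm)
    have hinv : ∀ k : ℤ, y ^ k * y ^ k = 1 → y ^ k = 1 ∨ y ^ k = z₀ := by
      intro k hk
      rw [← zpow_add, ← two_mul, hpow] at hk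
      have hf' : f ^ k = 1 := by
        rcases Int.even_or_odd k with e | e
        · exact (hf2i k).1 e
        · rw [(hf2i k).2 e] at hk
          exact absurd (show f ∈ zpowers a from mem_zpowers_iff.2 ⟨-(p * k), by
            rw [zpow_neg]; exact inv_eq_of_mul_eq_one_right hk⟩) F.f_not
      rw [hf', mul_one] at hk
      obtain ⟨d, hd⟩ : (2 : ℤ) ^ (m + 2) ∣ k := by
        refine Int.dvd_of_dvd_mul_right_of_gcd_one (hdvd _ hk) ?_
        rw [Int.gcd_comm, Int.gcd_eq_natAbs, Int.natAbs_pow]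
        exact Nat.Coprime.pow_right _ (Nat.coprime_two_right.2 (Int.natAbs_odd.2 ⟨q, hq⟩))
      have hk2 : k = 2 * (2 ^ (m + 1) * d) := by rw [hd]; ring
      rw [hk2, hpow, (hf2i _).1 (by rw [pow_succ]; exact ⟨2 ^ m * d, by ring⟩), mul_one,
        show p * (2 ^ (m + 1) * d) = ((2 ^ (m + 1) : ℕ) : ℤ) * (p * d) by push_cast; ring, zpow_mul,
        zpow_natCast, hzm]
      rcases Int.even_or_odd (p * d) with e | e
      · exact Or.inl ((F.zpow_z _).1 e)
      · exact Or.inr ((F.zpow_z _).2 e)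
    have hfy : f ∉ zpowers y := fun hm => by
      obtain ⟨k, hk⟩ := mem_zpowers_iff.1 hm
      rcases hinv k (by rw [hk]; exact F.f2) with e | e <;> rw [hk] at e
      · exact F.f1 e
      · exact F.fz e
    have hi : (zpowers y).relIndex S = 2 := by
      refine relIndex_two_of_coset F.fS hfy fun x hx => ?_
      by_cases hxC : x ∈ C
      · exact hCdec x hxC
      · rcases hCdec _ (F.inv_mul_mem_C hy hx hyC hxC) with e | e
        · exact Or.inl (by simpa using mul_mem (mem_zpowers y) e)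
        · exact Or.inr (by simpa [← mul_assoc] using mul_mem (mem_zpowers y) e)
    obtain ⟨g, hg, hgM⟩ := F.setup.exists_conj_of_index_two (M := zpowers y) (zpowers_le.2 hy) hi F.fS
      F.f2 F.f1 hfy
    obtain ⟨k, hk⟩ := mem_zpowers_iff.1 hgM
    have hgz : g * f * g⁻¹ = z₀ := by
      rcases hinv k (by rw [hk, show g * f * g⁻¹ * (g * f * g⁻¹) = g * (f * f) * g⁻¹ by group, F.f2]; group)
        with e | e <;> rw [hk] at e
      · exact absurd (conj_eq_one_iff.1 e) F.f1
      · exact e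
    refine F.fz (F.setup.eq_of_fusion F.setup.maxS F.setup.SP ?_ F.rS (F.Cc r F.rC f F.fC) rfl hg hgz)
    intro x hx hxx
    by_cases hxC : x ∈ C
    · obtain ⟨i, hi'⟩ := F.sq_C hxC
      rw [hi'] at hxx ⊢
      exact F.invol_powers hxx
    · exfalso
      obtain ⟨q', hq', ⟨l, hl⟩⟩ := hpx x hx hxC
      rw [hq', F.af_mul] at hxx
      have hd : (4 : ℤ) ∣ q' + q' := by
        refine dvd_trans ?_ (hdvd _ hxx)
        exact ⟨2 ^ m, by ring⟩
      omega
  · -- all exponents are even
    obtain ⟨p', hp'⟩ := hev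
    have hodd_pow : ∀ (g : G) (e : ℤ), g ∈ S → Odd e → g ^ e = 1 → g = 1 := by
      intro g e hg he h1
      obtain ⟨n, hn⟩ := F.setup.isS ⟨g, hg⟩
      have h2 : g ^ ((2 ^ n : ℕ) : ℤ) = 1 := by rw [zpow_natCast]; exact congrArg Subtype.val hn
      have h4 := Int.dvd_coe_gcd (orderOf_dvd_iff_zpow_eq_one.2 h1) (orderOf_dvd_iff_zpow_eq_one.2 h2)
      have hg1 : Int.gcd e (((2 ^ n : ℕ)) : ℤ) = 1 := by
        rw [Int.gcd_eq_natAbs, Int.natAbs_natCast]
        apply Nat.Coprime.pow_right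
        exact Nat.coprime_two_right.2 (Int.natAbs_odd.2 he)
      rw [hg1] at h4
      exact orderOf_eq_one_iff.1 (Nat.dvd_one.1 (by exact_mod_cast h4))
    set γ := y * f * y⁻¹ * f with hγ
    have hγz : γ = 1 ∨ γ = z₀ := hcomm_f y hy
    have hγ2 : γ * γ = 1 := by rcases hγz with e | e <;> rw [e]; exacts [one_mul 1, F.setup.z_mul]
    have hfour : ∀ x ∈ S, x ∉ C → x * x * (x * x) = γ ∧ x * x ≠ 1 ∧
        (∀ s : ℤ, x * a * x⁻¹ = a ^ s → γ = z₀ → x * a * x⁻¹ = a⁻¹) ∧ 1 ≤ m := by
      intro x hx hxC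
      obtain ⟨q, hq, hpar⟩ := hpx x hx hxC
      obtain ⟨q', hq'⟩ : Even q := by
        have := hpar.add ⟨p', hp'⟩
        rwa [sub_add_cancel] at this
      obtain ⟨s, j, hs, hj, hE1, hE2⟩ := F.rels hx hxC hq
      obtain ⟨c, hc, hxc⟩ : ∃ c ∈ C, x = y * c :=
        ⟨_, F.inv_mul_mem_C hy hx hyC hxC, (mul_inv_cancel_left y x).symm⟩
      have hxγ : x * f * x⁻¹ * f = γ := by
        rw [hxc, show y * c * f * (y * c)⁻¹ = y * (c * f * c⁻¹) * y⁻¹ by group, F.Cc c hc f F.fC,
          mul_inv_cancel_right]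
      rw [hxγ] at hE2
      have hd1 := hzd _ hE1
      have hm : 1 ≤ m := by
        by_contra hm0
        obtain rfl : m = 0 := by omega
        norm_num at hd1
        obtain ⟨l, hl⟩ := hj
        have h2 : (2 : ℤ) ∣ j * (s + 1) := by
          obtain ⟨d, hd⟩ := hd1; exact ⟨2 * d + 1 - q, by linear_combination hd⟩
        have h3 : (2 : ℤ) ∣ s + 1 := (Int.prime_two.dvd_mul.1 h2).resolve_left (by omega)
        obtain ⟨σ, hσ⟩ : (4 : ℤ) ∣ s - 1 := by
          obtain ⟨d, hd⟩ := h3
          have h5 : (4 : ℤ) ∣ j * (s + 1) - 2 := by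
            obtain ⟨e, he⟩ := hd1; exact ⟨e - q', by rw [hq'] at he; linear_combination he⟩
          rcases Int.even_or_odd d with ⟨d', hd'⟩ | ⟨d', hd'⟩
          · exfalso
            obtain ⟨e, he⟩ := h5
            rw [hd, hd', hl] at he
            have : (4 : ℤ) ∣ 2 := ⟨2 * l * d' + d' - e, by linear_combination -he⟩
            norm_num at this
          · exact ⟨d', by omega⟩
        have has : a ^ (s - 1) = 1 := by
          have h4 : a ^ (4 : ℤ) = 1 := by simpa using ha2
          rw [hσ, zpow_mul, h4, one_zpow]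
        refine hxC (F.cent hx ?_ ?_)
        · apply mul_inv_eq_iff_eq_mul.1
          rw [hs, show s = (s - 1) + 1 by ring, zpow_add, has, one_mul, zpow_one]
        · rw [mul_comm q, zpow_mul, has, one_zpow, one_mul, ← hxγ] at hE2
          have := eq_inv_of_mul_eq_one_left hE2
          rw [inv_eq_of_mul_eq_one_right F.f2] at this
          exact mul_inv_eq_iff_eq_mul.1 this
      obtain ⟨σ, hσ⟩ : (4 : ℤ) ∣ s + 1 := by
        obtain ⟨n, rfl⟩ : ∃ n, m = n + 1 := ⟨m - 1, by omega⟩
        have h5 : (4 : ℤ) ∣ j * (s + 1) := by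
          obtain ⟨e, he⟩ := hd1
          exact ⟨2 ^ (n + 1) * e + 2 ^ n - q', by rw [hq'] at he; linear_combination he⟩
        have hco : Int.gcd 4 j = 1 := by
          rw [Int.gcd_eq_natAbs]
          exact (Nat.coprime_two_left.2 (Int.natAbs_odd.2 hj)).pow_left 2
        exact Int.dvd_of_dvd_mul_right_of_gcd_one h5 hco
      have hqγ : a ^ (q + q) = γ := by
        rw [show q * (s - 1) = (q + q) * (2 * σ - 1) by
          have hs' : s = 4 * σ - 1 := by omega
          rw [hs']; ring, zpow_mul] at hE2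
        have h3 : (a ^ (q + q)) ^ (2 * σ - 1) = γ := by
          rw [eq_inv_of_mul_eq_one_left hE2, inv_eq_of_mul_eq_one_right hγ2]
        have h4 : a ^ (q + q) * a ^ (q + q) = 1 := by
          refine hodd_pow _ (2 * σ - 1) (mul_mem (zpow_mem F.aS _) (zpow_mem F.aS _))
            ⟨σ - 1, by ring⟩ ?_
          rw [(Commute.refl (a ^ (q + q))).mul_zpow, h3, hγ2]
        have h6 : (a ^ (q + q)) ^ (2 * σ - 1) = a ^ (q + q) := by
          generalize a ^ (q + q) = w at h4
          rw [show 2 * σ - 1 = 2 * (σ - 1) + 1 by ring, zpow_add, zpow_mul, zpow_two, h4, one_zpow,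
            one_mul, zpow_one]
        exact h6.symm.trans h3
      refine ⟨by rw [hq, F.af_mul, hqγ], fun e => ?_, fun s' _ hγe => ?_, hm⟩
      · rw [hq] at e
        exact F.f_not (by rw [eq_inv_of_mul_eq_one_right e]; exact inv_mem (mem_zpowers_iff.2 ⟨q, rfl⟩))
      · rw [zpow_add, hqγ, hγe] at hE1
        have h5 : a ^ (s + 1) = 1 := by
          refine hodd_pow _ j (zpow_mem F.aS _) hj ?_
          rw [← zpow_mul, mul_comm]
          exact mul_eq_left.1 hE1
        rw [hs]
        exact eq_inv_of_mul_eq_one_left (by rwa [zpow_add_one] at h5)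
    obtain ⟨hy4, -, hyinv, hm⟩ := hfour y hy hyC
    -- an index two transfer
    have hyodd : ∀ k : ℕ, Even k → (γ = 1 → y ^ k * y ^ k = 1) ∧
        y ^ k * y ^ k * (y ^ k * y ^ k) = 1 := by
      rintro k ⟨l, rfl⟩
      have e1 : y ^ (l + l) * y ^ (l + l) = γ ^ l := by
        rw [← hy4, ← pow_two y, ← pow_add, ← pow_add, ← pow_mul]; congr 1; ring
      refine ⟨fun e => by rw [e1, e, one_pow], ?_⟩
      rw [e1, ← (Commute.refl γ).mul_pow, hγ2, one_pow]
    refine F.setup.contra_hom F.CS (relIndex_two_of_coset hy hyC fun x hx => ?_) hy hyC ?_ ?_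
    · by_cases hxC : x ∈ C
      · exact Or.inl hxC
      · refine Or.inr ?_
        simpa using F.mul_inv_mem_C hx (inv_mem hy) hxC (fun h => hyC (by simpa using inv_mem h))
    · intro k hk g hg hgS
      by_contra hcC
      set c := g * y ^ k * g⁻¹ with hc
      obtain ⟨h4, h2, -, -⟩ := hfour c hgS hcC
      have e2 : c * c = g * (y ^ k * y ^ k) * g⁻¹ := by rw [hc]; group
      rcases hγz with e | e
      · rw [e2, (hyodd k hk).1 e] at h2; exact h2 (by group)
      · rw [e2, e, show g * (y ^ k * y ^ k) * g⁻¹ * (g * (y ^ k * y ^ k) * g⁻¹) =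
          g * (y ^ k * y ^ k * (y ^ k * y ^ k)) * g⁻¹ by group, (hyodd k hk).2] at h4
        exact F.setup.z_ne (by rw [← h4]; group)
    · intro k hk g hg hgS hcC
      obtain ⟨l, hl⟩ := hk
      have hyk : y ^ k ∈ S := pow_mem hy k
      have hykC : y ^ k ∉ C := fun hc => hyC (by
        have h1 : (y * y) ^ l ∈ C := pow_mem (F.sq_mem_C hy) l
        rw [hl, pow_succ, pow_mul, pow_two] at hc
        simpa using mul_mem (inv_mem h1) hc)
      set c1 := y ^ k * y ^ k with hc1
      obtain ⟨q, hq, -⟩ := hpx (y ^ k) hyk hykC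
      have hc1C : c1 ∈ C := F.sq_mem_C hyk
      have hc1S : ∀ s ∈ S, s * c1 = c1 * s := by
        intro s hs
        by_cases hsC : s ∈ C
        · exact F.Cc s hsC c1 hc1C
        · obtain ⟨d, hd, rfl⟩ : ∃ d ∈ C, s = y * d :=
            ⟨_, F.inv_mul_mem_C hy hs hyC hsC, (mul_inv_cancel_left y s).symm⟩
          have hyc : y * c1 = c1 * y :=
            ((Commute.refl y).pow_right k).mul_right ((Commute.refl y).pow_right k)
          rw [mul_assoc, F.Cc d hd c1 hc1C, ← mul_assoc, hyc, mul_assoc]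
      have hc1a : c1 ∉ zpowers a := fun hh => F.f_not (by
        rw [hc1, hq] at hh
        simpa using mul_mem (inv_mem (mem_zpowers_iff.2 ⟨q, rfl⟩ : a ^ q ∈ zpowers a)) hh)
      obtain ⟨h4, h2, -, -⟩ := hfour (y ^ k) hyk hykC
      set c := g * y ^ k * g⁻¹ with hc
      obtain ⟨i, hi⟩ := F.sq_C hcC
      have hcc : g * c1 * g⁻¹ = a ^ (i + i) := by rw [← hi, hc, hc1]; group
      rcases hγz with e | e
      · -- `y²` would be fused to `z` by an element normalizing `S`
        have h5 : a ^ (i + i) = z₀ := (F.invol_powers (i := i + i) (by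
          rw [← hcc, show g * c1 * g⁻¹ * (g * c1 * g⁻¹) = g * (c1 * c1) * g⁻¹ by group, hc1, h4, e]
          group)).resolve_left fun e' => h2 (conj_eq_one_iff.1 (hcc.trans e'))
        rw [h5] at hcc
        obtain ⟨n, hnA, hnS, hnc⟩ := exists_central_conj F.setup.maxS (x := z₀) (y := c1) (a := g⁻¹)
          (inv_mem hg) (fun s hs => F.setup.z_comm (F.setup.SP hs)) hc1S (by rw [← hcc]; group)
        obtain ⟨n', rfl⟩ : ∃ n', m = n' + 1 := ⟨m - 1, by omega⟩
        set u := n * a ^ (2 ^ n' : ℕ) * n⁻¹ with hu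
        have huS : u ∈ S := hnS _ (pow_mem F.aS _)
        have hu4 : u * u * (u * u) = c1 := by
          rw [← hnc, ← hzm, hu,
            show n * a ^ (2 ^ n' : ℕ) * n⁻¹ * (n * a ^ (2 ^ n' : ℕ) * n⁻¹) *
              (n * a ^ (2 ^ n' : ℕ) * n⁻¹ * (n * a ^ (2 ^ n' : ℕ) * n⁻¹)) =
              n * (a ^ (2 ^ n' : ℕ) * a ^ (2 ^ n' : ℕ) * (a ^ (2 ^ n' : ℕ) * a ^ (2 ^ n' : ℕ))) * n⁻¹ by group,
            ← pow_add, ← pow_add]
          congr 3
          ring
        by_cases huC : u ∈ C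
        · obtain ⟨l', hl'⟩ := F.sq_C huC
          exact hc1a (by rw [← hu4, hl', ← zpow_add]; exact mem_zpowers_iff.2 ⟨_, rfl⟩)
        · rw [(hfour u huS huC).1, e] at hu4
          exact hc1a (hu4 ▸ one_mem _)
      · -- the conjugating element would normalize `C`
        let H : Subgroup G := A ⊓ centralizer {a ^ (i + i)}
        have hCH : C ≤ H := fun x hx => mem_inf.2 ⟨F.setup.SA (F.CS hx),
          mem_centralizer_singleton_iff.2 (F.Cc x hx _ (zpow_mem F.aC _))⟩
        have hS' : IsMaxP 2 (conjOf S g) H := by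
          refine ⟨fun x hx => mem_inf.2 ⟨?_, mem_centralizer_singleton_iff.2 ?_⟩, F.setup.isS.map _,
            fun R hR hRp hle => ?_⟩
          · simpa [mul_assoc] using mul_mem (mul_mem hg (F.setup.SA (mem_conjOf.1 hx))) (inv_mem hg)
          · rw [← hcc]
            calc x * (g * c1 * g⁻¹) = g * ((g⁻¹ * x * g) * c1) * g⁻¹ := by group
              _ = g * (c1 * (g⁻¹ * x * g)) * g⁻¹ := by rw [hc1S _ (mem_conjOf.1 hx)]
              _ = g * c1 * g⁻¹ * x := by group
          · obtain ⟨b, -, hb⟩ := exists_conj_le_max F.setup.maxS (hR.trans inf_le_left) hRp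
            exact (Subgroup.eq_of_le_of_card_ge hle (by
              rw [card_conjOf]; exact (Subgroup.card_le_of_le hb).trans (card_conjOf S b).le)).symm
        obtain ⟨b, hbH, hb⟩ := exists_conj_le_max hS' hCH (F.setup.isS.to_le F.CS)
        set g' := b * g with hg'
        have hbcomm := mem_centralizer_singleton_iff.1 (mem_inf.1 hbH).2
        have hg'c : g' * c1 * g'⁻¹ = a ^ (i + i) := by
          rw [hg', show b * g * c1 * (b * g)⁻¹ = b * (g * c1 * g⁻¹) * b⁻¹ by group, hcc, hbcomm,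
            mul_inv_cancel_right]
        let C' : Subgroup G := conjOf C g'⁻¹
        have hmem' : ∀ x, x ∈ C' ↔ g' * x * g'⁻¹ ∈ C := fun x => by
          rw [show C' = conjOf C g'⁻¹ from rfl, mem_conjOf, inv_inv]
        have hC'S : C' ≤ S := fun x hx => by
          have h1 := mem_conjOf.1 (mem_conjOf.1 (hb ((hmem' x).1 hx)))
          rwa [hg', show g⁻¹ * (b⁻¹ * (b * g * x * (b * g)⁻¹) * b) * g = x by group] at h1
        have hc1' : c1 ∈ C' := (hmem' c1).2 (by rw [hg'c]; exact zpow_mem F.aC _)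
        have hsqC' : a * a ∈ C' := by
          have hcard : Nat.card C' = Nat.card C := card_conjOf C _
          have h1 : (C'.subgroupOf S).index = (C.subgroupOf S).index := by
            have e1 := (C'.subgroupOf S).card_mul_index
            have e2 := (C.subgroupOf S).card_mul_index
            rw [Nat.card_congr (subgroupOfEquivOfLe hC'S).toEquiv, hcard] at e1
            rw [Nat.card_congr (subgroupOfEquivOfLe F.CS).toEquiv] at e2
            exact Nat.eq_of_mul_eq_mul_left Nat.card_pos (e1.trans e2.symm)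
          have h2' : (C.subgroupOf S).index = 2 := relIndex_two_of_coset hy hyC fun x hx => by
            by_cases hxC : x ∈ C
            · exact Or.inl hxC
            · refine Or.inr ?_
              simpa using F.mul_inv_mem_C hx (inv_mem hy) hxC (fun h => hyC (by simpa using inv_mem h))
          exact Subgroup.mul_self_mem_of_index_two (H := C'.subgroupOf S) (h1.trans h2') ⟨a, F.aS⟩
        have hC'C : C' ≤ C := by
          intro x hx
          by_contra hxC
          obtain ⟨s, hs⟩ := F.act (hC'S hx)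
          have hinv := (hfour x (hC'S hx) hxC).2.2.1 s hs e
          have hcom : x * (a * a) = a * a * x := by
            have h1 := F.Cc _ ((hmem' x).1 hx) _ ((hmem' _).1 hsqC')
            calc x * (a * a) = g'⁻¹ * ((g' * x * g'⁻¹) * (g' * (a * a) * g'⁻¹)) * g' := by group
              _ = g'⁻¹ * ((g' * (a * a) * g'⁻¹) * (g' * x * g'⁻¹)) * g' := by rw [h1]
              _ = a * a * x := by group
          have h1 : x * (a * a) * x⁻¹ = a⁻¹ * a⁻¹ := by
            rw [show x * (a * a) * x⁻¹ = (x * a * x⁻¹) * (x * a * x⁻¹) by group, hinv]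
          rw [hcom, mul_inv_cancel_right] at h1
          have h6 : a ^ (4 : ℕ) = 1 := by
            calc a ^ 4 = (a * a) * (a * a) := by simp [pow_succ, mul_assoc]
              _ = a⁻¹ * a⁻¹ * (a * a) := by rw [← h1]
              _ = 1 := by group
          have h7 := orderOf_dvd_of_pow_eq_one h6
          rw [hom, show (4 : ℕ) = 2 ^ 2 by norm_num, Nat.pow_dvd_pow_iff_le_right Nat.one_lt_two] at h7
          omega
        have heq : C' = C := Subgroup.eq_of_le_of_card_ge hC'C (card_conjOf C _).ge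
        have hz : g'⁻¹ * a ^ i * g' ∈ C := by
          have h1 : g'⁻¹ * a ^ i * g' ∈ C' := (hmem' _).2 (by group; exact zpow_mem F.aC i)
          rwa [heq] at h1
        obtain ⟨l', hl'⟩ := F.sq_C hz
        refine hc1a (mem_zpowers_iff.2 ⟨l' + l', ?_⟩)
        rw [← hl']
        calc g'⁻¹ * a ^ i * g' * (g'⁻¹ * a ^ i * g') = g'⁻¹ * (a ^ (i + i)) * g' := by rw [zpow_add]; group
          _ = c1 := by rw [← hg'c]; group

end Frame

/-- There is no self-centralizing `P`-invariant abelian subgroup of rank two. -/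
theorem Setup.false_of_rank_two (h : Setup A S P t r) (hCS : C ≤ S)
    (hCP : ∀ p ∈ P, ∀ x ∈ C, p * x * p⁻¹ ∈ C) (hCc : ∀ x ∈ C, ∀ y ∈ C, x * y = y * x)
    (hCC : ∀ x ∈ S, (∀ y ∈ C, x * y = y * x) → x ∈ C)
    (hfC : f ∈ C) (hf2 : f * f = 1) (hf1 : f ≠ 1) (hfz : f ≠ r * r) : False := by
  haveI : Fact (Nat.Prime 2) := ⟨Nat.prime_two⟩
  classical
  have hrC : r ∈ C := Setup.rC h hCS hCP hCc hCC hfC hf2 hf1 hfz
  have htC : ∀ {x : G}, x ∈ C → t * x * t ∈ C := fun hx => Setup.tconjC h hCS hCP hCc hCC hfC hf2 hf1 hfz hx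
  have htmul : ∀ x y : G, t * (x * y) * t = (t * x * t) * (t * y * t) := fun x y => by
    rw [show t * x * t * (t * y * t) = t * x * (t * t) * y * t by group, h.tt]; group
  have htt : ∀ x : G, t * (t * x * t) * t = x := fun x => by
    rw [show t * (t * x * t) * t = (t * t) * x * (t * t) by group, h.tt, one_mul, mul_one]
  have hphi : ∀ x ∈ C, x * (t * x * t) ∈ zpowers r := fun x hx => by
    refine h.fix _ (mul_mem (hCS hx) (h.tconj (hCS hx))) ?_
    calc t * (x * (t * x * t)) = (t * x * t) * x * t := by group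
      _ = x * (t * x * t) * t := by rw [hCc _ (htC hx) x hx]
  have hinv_t : ∀ x : G, t * x⁻¹ * t = (t * x * t)⁻¹ := fun x => by
    rw [mul_inv_rev, mul_inv_rev, h.inv_t]; group
  let K : Subgroup G :=
    { carrier := {x | x ∈ C ∧ t * x * t = x⁻¹}
      mul_mem' := fun {x y} hx hy => ⟨mul_mem hx.1 hy.1, by
        rw [htmul, hx.2, hy.2, mul_inv_rev, hCc _ (inv_mem hx.1) _ (inv_mem hy.1)]⟩
      one_mem' := ⟨one_mem C, by rw [mul_one, inv_one, h.tt]⟩
      inv_mem' := fun {x} hx => ⟨inv_mem hx.1, by rw [hinv_t, hx.2]⟩ }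
  have hKS : K ≤ S := fun x hx => hCS hx.1
  have hK1 : ∀ x ∈ K, x * x = 1 → x = 1 ∨ x = r * r := fun x hx hx2 => by
    refine h.fix_sq (hKS hx) hx2 ?_
    calc t * x = t * x * (t * t) := by rw [h.tt, mul_one]
      _ = (t * x * t) * t := by group
      _ = x * t := by rw [hx.2, inv_eq_of_mul_eq_one_right hx2]
  obtain ⟨a', ha', hKa⟩ := PGroup.isCyclic_of_abelian_unique (p := 2) h.isS (A := K.subgroupOf S)
    (fun x hx y hy => Subtype.ext (hCc _ hx.1 _ hy.1)) (fun x hx y hy hox hy2 => by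
      have hx2 : x * x = 1 := by rw [← pow_two, ← hox]; exact pow_orderOf_eq_one x
      have hx1 : (x : G) = r * r := (hK1 x hx (congrArg Subtype.val hx2)).resolve_left fun e => by
        rw [show x = 1 from Subtype.ext e] at hox; simp at hox
      rcases hK1 y hy (by rw [← pow_two]; exact congrArg Subtype.val hy2) with e | e
      · rw [show y = 1 from Subtype.ext e]; exact one_mem _
      · rw [show y = x from Subtype.ext (e.trans hx1.symm)]; exact mem_zpowers x)
  set a : G := (a' : G)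
  have ha : a ∈ K := ha'
  have hKpow : ∀ x ∈ K, ∃ i : ℤ, a ^ i = x := fun x hx => by
    have h1 : (⟨x, hKS hx⟩ : ↥S) ∈ zpowers a' := by rw [hKa]; exact hx
    obtain ⟨i, hi⟩ := mem_zpowers_iff.1 h1
    exact ⟨i, congrArg Subtype.val hi⟩
  have hSab : (∀ x ∈ S, x ∈ C) → False := fun hSC =>
    h.false_of_comm (fun x hx y hy => hCc x (hSC x hx) y (hSC y hy)) (hCS hfC) hf2 hf1 hfz
      fun x hx hx2 => Setup.involutions h hCS hCP hCc hCC hfC hf2 hf1 hfz (hSC x hx) hx2
  have hr4z : r ^ (4 : ℤ) = 1 := by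
    have := pow_orderOf_eq_one r
    rw [h.r4] at this; exact_mod_cast this
  by_cases hbig : ∃ b ∈ C, (b * (t * b * t)) * (b * (t * b * t)) ≠ 1
  · -- `x ↦ x·x^t` maps `C` onto `⟨r⟩`; then `S = C`
    obtain ⟨b, hb, hb2⟩ := hbig
    set β := b⁻¹ * (t * b * t) with hβ
    have hβK : β ∈ K := by
      refine ⟨mul_mem (inv_mem hb) (htC hb), ?_⟩
      rw [hβ, htmul, htt, hinv_t]; group
    obtain ⟨i, hi⟩ := hKpow β hβK
    rcases Int.even_or_odd i with ⟨l, hl⟩ | ⟨l, hl⟩
    · -- `b` could be adjusted to a fixed element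
      set b' := b * a ^ l with hb'
      have hal : t * a ^ l * t = a ^ (-l) := by
        have := (zpow_mem ha l : a ^ l ∈ K).2
        rw [this, zpow_neg]
      have e1 : t * b' * t = (t * b * t) * a ^ (-l) := by rw [hb', htmul, hal]
      have hfix : t * b' = b' * t := by
        calc t * b' = t * b' * (t * t) := by rw [h.tt, mul_one]
          _ = (t * b' * t) * t := by group
          _ = b * β * a ^ (-l) * t := by rw [e1, hβ, mul_inv_cancel_left]
          _ = b' * t := by rw [hb', ← hi, hl]; group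
      obtain ⟨q, hq⟩ := mem_zpowers_iff.1 (h.fix b' (mul_mem (hCS hb) (zpow_mem (hKS ha) l)) hfix)
      refine hb2 ?_
      have e2 : b * (t * b * t) = b' * (t * b' * t) := by
        rw [e1, hb', show b * a ^ l * (t * b * t * a ^ (-l)) = b * (a ^ l * (t * b * t)) * a ^ (-l) by group,
          hCc _ (zpow_mem ha.1 l) _ (htC hb)]
        group
      rw [e2, show t * b' * t = b' by rw [hfix, mul_assoc, h.tt, mul_one], ← hq, ← zpow_add, ← zpow_add,
        show q + q + (q + q) = 4 * q by ring, zpow_mul, hr4z, one_zpow]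
    · refine hSab fun x hx => ?_
      by_contra hxC
      obtain ⟨x, hx, hxC, hxP⟩ := h.exists_step hCS hCP fun hle => hxC (hle hx)
      set v := x⁻¹ * (t * x * t) with hv
      have hvC : v ∈ C := by
        have := hxP t h.tP
        rwa [h.inv_t] at this
      have hvK : v ∈ K := ⟨hvC, by
        rw [hv, htmul, htt, hinv_t]; group⟩
      -- `v` is a power of `β`
      obtain ⟨n, hn⟩ := h.isS ⟨a, hKS ha⟩
      have han : a ^ ((2 ^ n : ℕ) : ℤ) = 1 := by rw [zpow_natCast]; exact congrArg Subtype.val hn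
      obtain ⟨α, γ, hαγ⟩ : IsCoprime i (((2 ^ n : ℕ)) : ℤ) := by
        rw [Int.isCoprime_iff_gcd_eq_one, Int.gcd_eq_natAbs, Int.natAbs_natCast]
        apply Nat.Coprime.pow_right
        exact Nat.coprime_two_right.2 (Int.natAbs_odd.2 ⟨l, hl⟩)
      obtain ⟨e, he⟩ := hKpow v hvK
      have hvβ : v = β ^ (α * e) := by
        rw [← hi, ← zpow_mul, ← he]
        calc a ^ e = a ^ e * (a ^ ((2 ^ n : ℕ) : ℤ)) ^ (-γ * e) := by rw [han, one_zpow, mul_one]
          _ = a ^ (i * (α * e)) := by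
            rw [← zpow_mul, ← zpow_add]; congr 1; linear_combination -e * hαγ
      set u := (b ^ (α * e))⁻¹ with hu
      have huC : u ∈ C := inv_mem (zpow_mem hb _)
      have htb : t * b ^ (α * e) * t = b ^ (α * e) * v := by
        have h1 := conj_zpow (i := α * e) (a := t) (b := b)
        rw [h.inv_t, show t * b * t = b * β by rw [hβ, mul_inv_cancel_left],
          Commute.mul_zpow (hCc b hb β hβK.1), ← hvβ] at h1
        exact h1.symm
      have hfix : t * (x * u) = x * u * t := by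
        calc t * (x * u) = t * (x * u) * (t * t) := by rw [h.tt, mul_one]
          _ = (t * (x * u) * t) * t := by group
          _ = x * v * (b ^ (α * e) * v)⁻¹ * t := by
              rw [htmul, hu, hinv_t, htb, hv, mul_inv_cancel_left]
          _ = x * u * t := by rw [hu]; group
      have hxu : x * u ∈ C := zpowers_le.2 hrC (h.fix _ (mul_mem hx (hCS huC)) hfix)
      exact hxC (by simpa using mul_mem hxu (inv_mem huC))
  · push Not at hbig
    have hdec : ∀ c ∈ C, c ∈ zpowers a ∨ c * f ∈ zpowers a := by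
      intro c hc
      have hf' := Setup.tf h hCS hCP hCc hCC hfC hf2 hf1 hfz
      obtain ⟨q, hq⟩ := mem_zpowers_iff.1 (hphi c hc)
      rcases h.fix_sq (mul_mem (hCS hc) (hCS (htC hc))) (hbig c hc) (by
          rw [← hq]; exact (show Commute t r from h.tr).zpow_right q) with e | e
      · obtain ⟨i, hi⟩ := hKpow c ⟨hc, eq_inv_of_mul_eq_one_right e⟩
        exact Or.inl (mem_zpowers_iff.2 ⟨i, hi⟩)
      · have e2 : c * f * (t * (c * f) * t) = 1 := by
          rw [htmul, hf', show c * f * (t * c * t * (f * (r * r))) = c * (f * (t * c * t)) * f * (r * r) by group,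
            hCc f hfC _ (htC hc), show c * (t * c * t * f) * f * (r * r) = (c * (t * c * t)) * (f * f) * (r * r) by group,
            e, hf2, mul_one, h.z_mul]
        obtain ⟨i, hi⟩ := hKpow (c * f) ⟨mul_mem hc hfC, eq_inv_of_mul_eq_one_right e2⟩
        exact Or.inr (mem_zpowers_iff.2 ⟨i, hi⟩)
    have F : Frame A S P C t r f a :=
      ⟨h, hCS, hCP, hCc, hCC, hfC, hf2, hf1, hfz, hrC, ha.1, ha.2, hdec⟩
    by_cases hy : ∀ x ∈ S, x ∈ C
    · exact hSab hy
    push Not at hy
    obtain ⟨y, hy, hyC⟩ := hy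
    by_cases hsqa : ∀ x ∈ S, x * x ∈ zpowers a
    · exact F.false_of_sq_mem hy hyC hsqa
    push Not at hsqa
    obtain ⟨x, hx, hxa⟩ := hsqa
    have hxC : x ∉ C := fun hc => by
      obtain ⟨i, hi⟩ := F.sq_C hc
      exact hxa (mem_zpowers_iff.2 ⟨_, hi.symm⟩)
    obtain ⟨q, hq⟩ := F.exists_rep (F.sq_mem_C hx)
    exact F.false_of_sq_not_mem hx hxC (hq.resolve_left fun e => hxa (mem_zpowers_iff.2 ⟨q, e.symm⟩))

end Cfsg.Agent.Components.CyclicFour
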