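/-
An involution with a cyclic group of order four as Sylow 2-subgroup of its centralizer in a perfect
group forces 2-rank one.
Main results: `Setup.exists_selfCentralizing`, `Setup.false`.
-/
import Cfsg.Agent.Lib.Components.CyclicFour.NonSplit
import Cfsg.Agent.Lib.Components.CyclicFour.Cyclic

set_option autoImplicit false
set_option linter.style.haveILetI false
set_option linter.unusedSectionVars false

namespace Cfsg.Agent.Components.CyclicFour

open Subgroup
open scoped commutatorElement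

variable {G : Type*} [Group G] [Finite G] {A S P : Subgroup G} {t r : G}

namespace Setup

variable (h : Setup A S P t r)
include h

theorem exists_selfCentralizing {C₀ : Subgroup G} (h0S : C₀ ≤ S)
    (h0P : ∀ p ∈ P, ∀ x ∈ C₀, p * x * p⁻¹ ∈ C₀) (h0c : ∀ x ∈ C₀, ∀ y ∈ C₀, x * y = y * x) :
    ∃ C : Subgroup G, C₀ ≤ C ∧ C ≤ S ∧ (∀ p ∈ P, ∀ x ∈ C, p * x * p⁻¹ ∈ C) ∧
      (∀ x ∈ C, ∀ y ∈ C, x * y = y * x) ∧ ∀ x ∈ S, (∀ y ∈ C, x * y = y * x) → x ∈ C := by
  haveI : Fact (Nat.Prime 2) := ⟨Nat.prime_two⟩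
  let T : Set (Subgroup G) := {C | C₀ ≤ C ∧ C ≤ S ∧ (∀ p ∈ P, ∀ x ∈ C, p * x * p⁻¹ ∈ C) ∧
    ∀ x ∈ C, ∀ y ∈ C, x * y = y * x}
  obtain ⟨C, ⟨h0, hCS, hCP, hCc⟩, hmax⟩ := (Set.toFinite T).exists_maximal ⟨C₀, le_rfl, h0S, h0P, h0c⟩
  refine ⟨C, h0, hCS, hCP, hCc, ?_⟩
  by_contra hn
  push Not at hn
  obtain ⟨x₀, hx₀S, hx₀c, hx₀C⟩ := hn
  let D : Subgroup G := S ⊓ centralizer (C : Set G)
  have hCD : C ≤ D := le_inf hCS fun x hx => mem_centralizer_iff.2 fun y hy => hCc y hy x hx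
  have hDP : ∀ p ∈ P, ∀ x ∈ D, p * x * p⁻¹ ∈ D := by
    intro p hp x hx
    refine ⟨h.conjS hp hx.1, mem_centralizer_iff.2 fun y hy => ?_⟩
    have h1 := mem_centralizer_iff.1 hx.2 _ (hCP p⁻¹ (inv_mem hp) y hy)
    rw [inv_inv] at h1
    calc y * (p * x * p⁻¹) = p * (p⁻¹ * y * p * x) * p⁻¹ := by group
      _ = p * (x * (p⁻¹ * y * p)) * p⁻¹ := by rw [h1]
      _ = p * x * p⁻¹ * y := by group
  haveI : (C.subgroupOf P).Normal := ⟨fun n hn p => mem_subgroupOf.2 (hCP p p.2 n hn)⟩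
  haveI : (D.subgroupOf P).Normal := ⟨fun n hn p => mem_subgroupOf.2 (hDP p p.2 n hn)⟩
  have hlt : C.subgroupOf P < D.subgroupOf P := lt_of_le_not_ge (fun x hx => hCD hx)
    fun hle => hx₀C (hle (show (⟨x₀, h.SP hx₀S⟩ : ↥P) ∈ D.subgroupOf P from
      ⟨hx₀S, mem_centralizer_iff.2 fun y hy => (hx₀c y hy).symm⟩))
  obtain ⟨K, -, hCK, hKD, hK, hcomm⟩ := PGroup.exists_normal_between h.isP hlt
  obtain ⟨x, hxK, hxC⟩ : ∃ x ∈ K, x ∉ C.subgroupOf P := by
    by_contra! hc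
    rw [le_antisymm hCK hc] at hK
    have := Nat.card_pos (α := K)
    omega
  have hxD : (x : G) ∈ D := hKD hxK
  refine hxC (mem_subgroupOf.2 ((show C ⊔ zpowers (x : G) ≤ C from
    hmax ⟨h0.trans le_sup_left, ?_, ?_, ?_⟩ le_sup_left) (mem_sup_right (mem_zpowers _))))
  · exact sup_le hCS (zpowers_le.2 hxD.1)
  · intro p hp y hy
    have hle : C ⊔ zpowers (x : G) ≤ (C ⊔ zpowers (x : G)).comap (MulAut.conj p).toMonoidHom := by
      refine sup_le (fun c hc => mem_sup_left (hCP p hp c hc)) (zpowers_le.2 ?_)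
      have hm : (⁅x, (⟨p, hp⟩ : ↥P)⁆ : ↥P) ∈ C.subgroupOf P :=
        hcomm (commutator_mem_commutator hxK (mem_top _))
      have hm' : (x : G) * p * (x : G)⁻¹ * p⁻¹ ∈ C := hm
      show p * (x : G) * p⁻¹ ∈ C ⊔ zpowers (x : G)
      rw [show p * (x : G) * p⁻¹ = ((x : G) * p * (x : G)⁻¹ * p⁻¹)⁻¹ * x by group]
      exact mul_mem (mem_sup_left (inv_mem hm')) (mem_sup_right (mem_zpowers _))
    exact hle hy
  · have hcl : ∀ y ∈ C, Commute (x : G) y := fun y hy => (mem_centralizer_iff.1 hxD.2 y hy).symm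
    have h1 : ∀ y ∈ C ⊔ zpowers (x : G), ∀ c ∈ C, Commute y c := by
      intro y hy c hc
      have : C ⊔ zpowers (x : G) ≤ centralizer {c} := sup_le
        (fun a ha => mem_centralizer_singleton_iff.2 (hCc a ha c hc))
        (zpowers_le.2 (mem_centralizer_singleton_iff.2 (hcl c hc)))
      exact mem_centralizer_singleton_iff.1 (this hy)
    have h2 : ∀ y ∈ C ⊔ zpowers (x : G), Commute y (x : G) := by
      intro y hy
      have : C ⊔ zpowers (x : G) ≤ centralizer {(x : G)} := sup_le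
        (fun a ha => mem_centralizer_singleton_iff.2 (hcl a ha).symm)
        (zpowers_le.2 (mem_centralizer_singleton_iff.2 rfl))
      exact mem_centralizer_singleton_iff.1 (this hy)
    intro a ha b hb
    have : C ⊔ zpowers (x : G) ≤ centralizer {a} := sup_le
      (fun c hc => mem_centralizer_singleton_iff.2 (h1 a ha c hc).symm)
      (zpowers_le.2 (mem_centralizer_singleton_iff.2 (h2 a ha).symm))
    exact (mem_centralizer_singleton_iff.1 (this hb)).symm

theorem «false» : False := by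
  by_cases hW : ∃ f ∈ S, f * f = 1 ∧ f ≠ 1 ∧ f ≠ r * r ∧
      ∀ p ∈ P, p * f * p⁻¹ = f ∨ p * f * p⁻¹ = f * (r * r)
  · obtain ⟨f, hf, hf2, hf1, hfz, hfP⟩ := hW
    set C₀ := closure ({f, r * r} : Set G)
    have hzf : r * r * f = f * (r * r) := (h.z_comm (h.SP hf)).symm
    haveI : IsMulCommutative ↥C₀ := isMulCommutative_closure (k := {f, r * r}) (by
      rintro x (rfl | rfl) y (rfl | rfl) <;> first | rfl | exact hzf | exact hzf.symm)
    have h0c : ∀ x ∈ C₀, ∀ y ∈ C₀, x * y = y * x := fun x hx y hy =>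
      congrArg Subtype.val (mul_comm' (⟨x, hx⟩ : ↥C₀) ⟨y, hy⟩)
    have h0P : ∀ p ∈ P, ∀ x ∈ C₀, p * x * p⁻¹ ∈ C₀ := by
      intro p hp x hx
      refine (closure_le (K := C₀.comap (MulAut.conj p).toMonoidHom)).2 ?_ hx
      rintro y (rfl | rfl)
      · show p * y * p⁻¹ ∈ C₀
        rcases hfP p hp with e | e <;> rw [e]
        · exact subset_closure (Or.inl rfl)
        · exact mul_mem (subset_closure (Or.inl rfl)) (subset_closure (Or.inr rfl))
      · show p * (r * r) * p⁻¹ ∈ C₀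
        rw [h.z_comm hp, mul_inv_cancel_right]
        exact subset_closure (Or.inr rfl)
    obtain ⟨C, h0, hCS, hCP, hCc, hCC⟩ := h.exists_selfCentralizing
      ((closure_le S).2 (by rintro y (rfl | rfl); exacts [hf, h.z_mem])) h0P h0c
    exact h.false_of_rank_two hCS hCP hCc hCC (h0 (subset_closure (Or.inl rfl))) hf2 hf1 hfz
  · obtain ⟨C, -, hCS, hCP, hCc, hCC⟩ := h.exists_selfCentralizing (C₀ := ⊥) bot_le
      (fun p _ x hx => by simp [mem_bot.1 hx]) (fun x hx y hy => by simp [mem_bot.1 hx, mem_bot.1 hy])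
    by_cases hf : ∃ f ∈ C, f * f = 1 ∧ f ≠ 1 ∧ f ≠ r * r
    · obtain ⟨f, hfC, hf2, hf1, hfz⟩ := hf
      exact h.false_of_rank_two hCS hCP hCc hCC hfC hf2 hf1 hfz
    · push Not at hf hW
      refine h.false_of_cyclic hCS hCP hCc hCC (fun y hy hy2 => ?_) (fun f hf' hf2 hfP => ?_)
      · by_cases h1 : y = 1
        · exact Or.inl h1
        · exact Or.inr (hf y hy hy2 h1)
      · by_contra hn
        rw [not_or] at hn
        obtain ⟨p, hp, hp1, hp2⟩ := hW f hf' hf2 hn.1 hn.2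
        exact (hfP p hp).elim hp1 hp2

end Setup

end Cfsg.Agent.Components.CyclicFour
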